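import Cfsg.Agent.Lib.FixedComm.Reduce
import Mathlib.Algebra.Group.Subgroup.Basic

/-!
# The base configuration `H = V ⋊ L`

`L` abelian, irreducible under `x` without fixed points, `C_V(L) = 1`: then either some `[h, x]`
is all of `H`, or `C_V(x)` would be so large that a Vandermonde argument gives a contradiction.
-/

set_option autoImplicit false
set_option linter.style.haveILetI false

namespace Cfsg.Agent.FixedComm

open Subgroup
open scoped Pointwise commutatorElement IsMulCommutative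

variable {H : Type*} [Group H] [Finite H] {p : ℕ} [Fact p.Prime] {x : MulAut H}

/-- If `V = W · aWa⁻¹` for all `a ≠ 1` in `L` and `L` acts without fixed points, then `V = 1`. -/
theorem eq_bot_of_fpf (hx : x ^ p = 1) (hodd : Odd p) {V L : Subgroup H} [V.Normal]
    [IsMulCommutative V] (hLc : ∀ a ∈ L, ∀ b ∈ L, a * b = b * a) (hL : Inv x L)
    (hLx : L ⊓ Fx x = ⊥) (hL1 : L ≠ ⊥)
    (hfpf : ∀ a ∈ L, a ≠ 1 → ∀ v ∈ V, a * v * a⁻¹ = v → v = 1)
    (hcov : ∀ a ∈ L, a ≠ 1 → ∀ v ∈ V, ∃ w₁ ∈ V ⊓ Fx x, ∃ w₂ ∈ V ⊓ Fx x,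
      v = w₁ * (a * w₂ * a⁻¹)) : V = ⊥ := by
  have hp : p.Prime := Fact.out
  let Φ : H → (V →* V) := fun a => (MulAut.conjNormal a : MulAut V).toMonoidHom
  have hΦ : ∀ (a : H) (v : V), ((Φ a v : V) : H) = a * v * a⁻¹ := fun a v =>
    MulAut.conjNormal_apply a v
  have hΦm : ∀ (a b : H) (v : V), Φ (a * b) v = Φ a (Φ b v) := fun a b v =>
    Subtype.ext (by rw [hΦ, hΦ, hΦ]; group)
  have hfix : ∀ a ∈ L, a ≠ 1 → ∀ v : V, Φ a v = v → v = 1 := fun a ha ha1 v hv =>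
    Subtype.ext (hfpf a ha ha1 v v.2 (by rw [← hΦ, hv]))
  haveI := (nontrivial_iff_ne_bot L).mpr hL1
  obtain ⟨⟨a, ha⟩, ha1⟩ := exists_ne (1 : L)
  replace ha1 : a ≠ 1 := fun h => ha1 (Subtype.ext h)
  have hnf : ∀ b ∈ L, x b = b → b = 1 := fun b hb h => by
    have : b ∈ L ⊓ Fx x := ⟨hb, h⟩
    rwa [hLx, mem_bot] at this
  set a₁ := x a
  set a₂ := x a₁
  have ha₁ : a₁ ∈ L := hL a ha
  have ha₂ : a₂ ∈ L := hL _ ha₁
  have d1 : a ≠ a₁ := fun h => ha1 (hnf a ha h.symm)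
  have d2 : a₁ ≠ a₂ := fun h => ha1 (hnf a ha (x.injective h.symm))
  have d3 : a ≠ a₂ := by
    intro h
    apply ha1
    obtain ⟨r, hr⟩ := hodd
    have h2 : ∀ j, (x ^ (2 * j)) a = a := by
      intro j
      induction j with
      | zero => simp
      | succ j ih =>
        rw [show 2 * (j + 1) = 2 * j + 1 + 1 by ring, pow_succ_apply, pow_succ_apply, ih]
        exact h.symm
    refine hnf a ha ?_
    have h3 : (x ^ (2 * (r + 1))) a = x a := by
      rw [show 2 * (r + 1) = 1 + p by omega, pow_add, hx, mul_one, pow_one]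
    exact h3.symm.trans (h2 (r + 1))
  set W := (Fx x).subgroupOf V with hW
  let F : W × W × W →* V :=
    { toFun := fun t => (t.1 : V) * (Φ a t.2.1) * (Φ (a * a) t.2.2)
      map_one' := by simp
      map_mul' := fun s t => by
        simp only [Prod.fst_mul, Prod.snd_mul, Subgroup.coe_mul, map_mul]
        ac_rfl }
  have hxe : ∀ (b : H) (w : W), x ((Φ b (w : V) : V) : H) = ((Φ (x b) (w : V) : V) : H) := by
    intro b w
    rw [hΦ, hΦ, map_mul, map_mul, map_inv]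
    have : x ((w : V) : H) = ((w : V) : H) := w.2
    rw [this]
  have hinj : Function.Injective F := by
    rw [injective_iff_map_eq_one]
    rintro ⟨w₀, w₁, w₂⟩ h0
    have e0 : (w₀ : V) * Φ a w₁ * Φ (a * a) w₂ = 1 := h0
    have next_eq : ∀ b : H, (w₀ : V) * Φ b w₁ * Φ (b * b) w₂ = 1 →
        (w₀ : V) * Φ (x b) w₁ * Φ (x b * x b) w₂ = 1 := by
      intro b hb
      apply Subtype.ext
      have h := congrArg (fun v : V => x (v : H)) hb
      simp only [Subgroup.coe_mul, map_mul, hxe] at h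
      have : x ((w₀ : V) : H) = ((w₀ : V) : H) := w₀.2
      rw [this] at h
      simpa [Subgroup.coe_mul] using h
    have e1 := next_eq a e0
    have e2 := next_eq a₁ e1
    have step : ∀ b c : H, b ∈ L → c ∈ L → b ≠ c →
        (w₀ : V) * Φ b w₁ * Φ (b * b) w₂ = 1 → (w₀ : V) * Φ c w₁ * Φ (c * c) w₂ = 1 →
        (w₁ : V) * Φ b w₂ * Φ c w₂ = 1 := by
      intro b c hb hc hbc hb1 hc1
      refine hfix (c⁻¹ * b) (mul_mem (inv_mem hc) hb) (fun h => hbc (inv_mul_eq_one.mp h).symm) _ ?_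
      have h1 : Φ b ((w₁ : V) * Φ b w₂ * Φ c w₂) = Φ c ((w₁ : V) * Φ b w₂ * Φ c w₂) := by
        simp only [map_mul, ← hΦm]
        rw [hLc b hb c hc]
        have hb2 : Φ b (w₁ : V) * Φ (b * b) w₂ = (w₀ : V)⁻¹ := by
          rw [eq_inv_iff_mul_eq_one, mul_comm, ← mul_assoc]; exact hb1
        have hc2 : Φ c (w₁ : V) * Φ (c * c) w₂ = (w₀ : V)⁻¹ := by
          rw [eq_inv_iff_mul_eq_one, mul_comm, ← mul_assoc]; exact hc1
        rw [hb2, mul_right_comm (Φ c (w₁ : V)), hc2]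
      rw [hΦm, h1, ← hΦm, inv_mul_cancel]
      exact Subtype.ext (by rw [hΦ]; group)
    have s1 := step a a₁ ha ha₁ d1 e0 e1
    have s2 := step a a₂ ha ha₂ d3 e0 e2
    have hw2 : (w₂ : V) = 1 := by
      refine hfix (a₂⁻¹ * a₁) (mul_mem (inv_mem ha₂) ha₁)
        (fun h => d2 (inv_mul_eq_one.mp h).symm) _ ?_
      rw [hΦm, mul_left_cancel (s1.trans s2.symm), ← hΦm, inv_mul_cancel]
      exact Subtype.ext (by rw [hΦ]; group)
    rw [hw2, map_one, map_one, mul_one, mul_one] at s1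
    rw [hw2, s1, map_one, map_one, mul_one, mul_one] at e0
    exact Prod.ext (Subtype.ext e0) (Prod.ext (Subtype.ext s1) (Subtype.ext hw2))
  have h3 := Nat.card_le_card_of_injective F hinj
  have h2 : Nat.card V ≤ Nat.card (W × W) := by
    refine Nat.card_le_card_of_surjective (fun t : W × W => (t.1 : V) * Φ a t.2) fun v => ?_
    obtain ⟨u₁, hu₁, u₂, hu₂, e⟩ := hcov a ha ha1 v v.2
    refine ⟨(⟨⟨u₁, hu₁.1⟩, hu₁.2⟩, ⟨⟨u₂, hu₂.1⟩, hu₂.2⟩), Subtype.ext ?_⟩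
    rw [Subgroup.coe_mul, hΦ]
    exact e.symm
  simp only [Nat.card_prod] at h2 h3
  have hW0 : 0 < Nat.card W := Nat.card_pos
  have hW1 : Nat.card W = 1 := by
    by_contra hne
    have : 2 ≤ Nat.card W := by omega
    have h4 : Nat.card W * (Nat.card W * Nat.card W) ≤ 1 * (Nat.card W * Nat.card W) := by
      rw [one_mul]; exact h3.trans h2
    have h5 := Nat.le_of_mul_le_mul_right h4 (by positivity)
    omega
  rw [hW1, mul_one] at h2
  exact Subgroup.eq_bot_of_card_le V h2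

omit [Fact p.Prime] in
/-- The block argument: a `K₀ ≤ L` with fixed points on `V`, maximal so, and moved by `x`. -/
theorem false_of_blocks [Fact p.Prime] (hx : x ^ p = 1) (hodd : Odd p) {V L K₀ : Subgroup H}
    [V.Normal] [IsMulCommutative V] (hV : Inv x V) (hLc : ∀ a ∈ L, ∀ b ∈ L, a * b = b * a)
    (hL : Inv x L) (hLx : L ⊓ Fx x = ⊥) (hcopVL : (Nat.card L).Coprime (Nat.card V))
    (hK0L : K₀ ≤ L) (hU : V ⊓ centralizer (K₀ : Set H) ≠ ⊥)
    (hmax : ∀ a ∈ L, a ∉ K₀ → ∀ v ∈ V ⊓ centralizer (K₀ : Set H), a * v * a⁻¹ = v → v = 1)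
    (hmove : ¬ Inv x K₀)
    (hcov : ∀ a ∈ L, a ≠ 1 → ∀ v ∈ V, ∃ w₁ ∈ V ⊓ Fx x, ∃ w₂ ∈ V ⊓ Fx x,
      v = w₁ * (a * w₂ * a⁻¹)) : False := by
  obtain ⟨u, hu, hu1⟩ := SetLike.exists_of_lt (bot_lt_iff_ne_bot.mpr hU)
  set B := ⁅V, K₀⁆ with hB
  have hLV : L ≤ normalizer (V : Set H) := by rw [normalizer_eq_top]; exact le_top
  have hK0V : K₀ ≤ normalizer (V : Set H) := hK0L.trans hLV
  have hcop0 : (Nat.card K₀).Coprime (Nat.card V) :=
    hcopVL.coprime_dvd_left (card_dvd_of_le hK0L)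
  have hBV : B ≤ V := Coprime.commutator_le_left_of_le_normalizer hK0V
  have hBU : (V ⊓ centralizer (K₀ : Set H)) ⊓ B = ⊥ :=
    Coprime.inf_centralizer_inf_commutator_eq_bot hK0V hcop0
  have hBL : L ≤ normalizer (B : Set H) := Coprime.le_normalizer_commutator hLV
    (fun l hl => mem_centralizer_iff.mpr fun k hk => hLc k (hK0L hk) l hl)
  have hs : Group.IsSolvable K₀ ∨ Group.IsSolvable V :=
    Or.inr (Group.isSolvable_of_comm fun a b => mul_comm a b)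
  -- the translates of `K₀`
  have hmove2 : ∃ k ∈ K₀, (x ^ 2) k ∉ K₀ := by
    by_contra hcon
    push Not at hcon
    apply hmove
    intro k hk
    obtain ⟨r, hr⟩ := hodd
    have h2 : ∀ j, (x ^ (2 * j)) k ∈ K₀ := by
      intro j
      induction j with
      | zero => simpa using hk
      | succ j ih =>
        rw [show 2 * (j + 1) = 2 + 2 * j by ring, pow_add, MulAut.mul_apply]
        exact hcon _ ih
    have := h2 (r + 1)
    rwa [show 2 * (r + 1) = 1 + p by omega, pow_add, hx, mul_one, pow_one] at this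
  have hmove1 : ∃ k ∈ K₀, (x ^ 1) k ∉ K₀ := by
    by_contra hcon
    push Not at hcon
    exact hmove fun k hk => by simpa using hcon k hk
  have hUi : ∀ i, (∃ k ∈ K₀, (x ^ i) k ∉ K₀) → ∀ v ∈ V ⊓ centralizer (K₀ : Set H),
      (x ^ i) v ∈ B := by
    rintro i ⟨k, hk, hki⟩ v hv
    set Ui := (V ⊓ centralizer (K₀ : Set H)).map ((x ^ i : MulAut H) : H →* H) with hUidef
    have hUiV : Ui ≤ V := by
      rintro _ ⟨z, hz, rfl⟩
      exact hV.pow i hz.1
    have hK0Ui : K₀ ≤ normalizer (Ui : Set H) := by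
      intro l hl
      rw [mem_normalizer_iff]
      obtain ⟨l', rfl⟩ := (x ^ i).surjective l
      have hl' : ∀ k' ∈ K₀, k' * l' = l' * k' := fun k' hk' => by
        apply (x ^ i).injective
        rw [map_mul, map_mul]
        exact hLc _ (hL.pow i (hK0L hk')) _ (hK0L hl)
      have hnorm : l' ∈ normalizer ((V ⊓ centralizer (K₀ : Set H) : Subgroup H) : Set H) := by
        refine inf_normalizer_le_normalizer_inf ⟨by rw [normalizer_eq_top]; exact mem_top _, ?_⟩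
        exact le_normalizer (mem_centralizer_iff.mpr hl')
      intro z
      obtain ⟨z', rfl⟩ := (x ^ i).surjective z
      rw [← map_inv, ← map_mul, ← map_mul, hUidef,
        show (x ^ i) z' = ((x ^ i : MulAut H) : H →* H) z' from rfl,
        show (x ^ i) (l' * z' * l'⁻¹) = ((x ^ i : MulAut H) : H →* H) (l' * z' * l'⁻¹) from rfl,
        mem_map_iff_mem (x ^ i).injective, mem_map_iff_mem (x ^ i).injective]
      exact mem_normalizer_iff.mp hnorm z'
    have h1 := Coprime.commutator_sup_centralizer hK0Ui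
      (hcop0.coprime_dvd_right (card_dvd_of_le hUiV))
      (Or.inr (Group.isSolvable_of_comm fun a b => by
        apply Subtype.ext
        have h := congrArg (fun z : V => (z : H)) (mul_comm (⟨a, hUiV a.2⟩ : V) ⟨b, hUiV b.2⟩)
        exact h))
    have h2 : Ui ⊓ centralizer (K₀ : Set H) = ⊥ := by
      rw [eq_bot_iff]
      rintro z ⟨⟨z', hz', rfl⟩, hzc⟩
      rw [mem_bot]
      refine hmax ((x ^ i) k) (hL.pow i (hK0L hk)) hki _ ⟨hV.pow i hz'.1, hzc⟩ ?_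
      show (x ^ i) k * (x ^ i) z' * ((x ^ i) k)⁻¹ = (x ^ i) z'
      rw [← map_inv, ← map_mul, ← map_mul, mem_centralizer_iff.mp hz'.2 k hk,
        mul_inv_cancel_right]
    rw [h2, sup_bot_eq] at h1
    have hvUi : (x ^ i) v ∈ ⁅Ui, K₀⁆ := h1.symm ▸ (⟨v, hv, rfl⟩ : (x ^ i) v ∈ Ui)
    exact commutator_mono hUiV le_rfl hvUi
  -- the element `a`
  obtain ⟨l₀, hl₀, hl₀K⟩ : ∃ l ∈ L, l ∉ K₀ := by
    by_contra hcon
    push Not at hcon
    exact hmove fun k hk => hcon _ (hL k (hK0L hk))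
  let ψ : L → L := fun a =>
    ⟨((x ^ 2) (a : H))⁻¹ * (x ^ 1) (a : H), mul_mem (inv_mem (hL.pow 2 a.2)) (hL.pow 1 a.2)⟩
  have hψ : Function.Injective ψ := by
    intro a b hab
    have h : ((x ^ 2) (a : H))⁻¹ * (x ^ 1) (a : H) = ((x ^ 2) (b : H))⁻¹ * (x ^ 1) (b : H) :=
      congrArg Subtype.val hab
    simp only [pow_two, MulAut.mul_apply, pow_one, ← map_inv, ← map_mul] at h
    have h' : (x (a : H))⁻¹ * (a : H) = (x (b : H))⁻¹ * (b : H) := by
      simpa only [← map_inv] using x.injective h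
    have hab2 : x ((b : H) * (a : H)⁻¹) = (b : H) * (a : H)⁻¹ := by
      have e : x (b : H) * (x (a : H))⁻¹ * (a : H) = (b : H) := by
        rw [mul_assoc, h', mul_inv_cancel_left]
      rw [map_mul, map_inv]
      exact eq_mul_inv_iff_mul_eq.mpr e
    have : (b : H) * (a : H)⁻¹ ∈ L ⊓ Fx x := ⟨mul_mem b.2 (L.inv_mem a.2), hab2⟩
    rw [hLx, mem_bot, mul_inv_eq_one] at this
    exact Subtype.ext this.symm
  obtain ⟨⟨a, ha⟩, haψ⟩ := Finite.injective_iff_surjective.mp hψ ⟨l₀, hl₀⟩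
  set a₁ := (x ^ 1) a with ha₁
  set a₂ := (x ^ 2) a with ha₂
  have hb : a₂⁻¹ * a₁ = l₀ := congrArg Subtype.val haψ
  have ha1 : a ≠ 1 := fun h => hl₀K (by rw [← hb, ha₁, ha₂, h, map_one, map_one]; simp)
  obtain ⟨w₁, hw₁, w₂, hw₂, e⟩ := hcov a ha ha1 u hu.1
  have hi : ∀ i, (∃ k ∈ K₀, (x ^ i) k ∉ K₀) →
      w₁ * ((x ^ i) a * w₂ * ((x ^ i) a)⁻¹) ∈ B := by
    intro i hk
    have h := hUi i hk u hu
    rwa [e, map_mul, map_mul, map_mul, map_inv, fixed_pow hw₁.2, fixed_pow hw₂.2] at h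
  have h1 := hi 1 hmove1
  have h2 := hi 2 hmove2
  have hconjV : ∀ (s : H) {v : H}, v ∈ V → s * v * s⁻¹ ∈ V := fun s v hv =>
    ‹V.Normal›.conj_mem v hv s
  have hVc : ∀ v ∈ V, ∀ v' ∈ V, v * v' = v' * v := fun v hv v' hv' =>
    congrArg Subtype.val (mul_comm (⟨v, hv⟩ : V) ⟨v', hv'⟩)
  have hLB : ∀ (s : H), s ∈ L → ∀ {z : H}, z ∈ B → s * z * s⁻¹ ∈ B := fun s hs z hz =>
    (mem_normalizer_iff.mp (hBL hs) z).mp hz
  have h3 : w₂⁻¹ * (l₀ * w₂ * l₀⁻¹) ∈ B := by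
    have h := hLB a₂⁻¹ (inv_mem (hL.pow 2 ha)) (mul_mem (B.inv_mem h2) h1)
    have e3 : a₂⁻¹ * ((w₁ * (a₂ * w₂ * a₂⁻¹))⁻¹ * (w₁ * (a₁ * w₂ * a₁⁻¹))) * a₂⁻¹⁻¹ =
        w₂⁻¹ * (a₂⁻¹ * a₁ * w₂ * (a₂⁻¹ * a₁)⁻¹) := by group
    rwa [e3, hb] at h
  obtain ⟨c, hc, m, hm, hcm⟩ :=
    Coprime.exists_centralizer_mul_commutator hK0V hcop0 hs hw₂.1
  have hc1 : c = 1 := by
    refine hmax l₀ hl₀ hl₀K c hc ?_
    have hin : c⁻¹ * (l₀ * c * l₀⁻¹) ∈ B := by
      have e4 : c⁻¹ * (l₀ * c * l₀⁻¹) =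
          (w₂⁻¹ * (l₀ * w₂ * l₀⁻¹)) * (m * (l₀ * m⁻¹ * l₀⁻¹)) := by
        have hcm' : w₂⁻¹ * (l₀ * w₂ * l₀⁻¹) = (m⁻¹ * (c⁻¹ * (l₀ * c * l₀⁻¹))) * (l₀ * m * l₀⁻¹) := by
          rw [hcm]; group
        rw [hcm', hVc (m⁻¹) (inv_mem (hBV hm)) _ (mul_mem (inv_mem hc.1) (hconjV l₀ hc.1))]
        have hh := hVc (m⁻¹) (inv_mem (hBV hm)) (l₀ * m * l₀⁻¹) (hconjV l₀ (hBV hm))
        calc c⁻¹ * (l₀ * c * l₀⁻¹)
            = c⁻¹ * (l₀ * c * l₀⁻¹) * ((l₀ * m * l₀⁻¹) * m⁻¹) * (m * (l₀ * m⁻¹ * l₀⁻¹)) := by group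
          _ = c⁻¹ * (l₀ * c * l₀⁻¹) * (m⁻¹ * (l₀ * m * l₀⁻¹)) * (m * (l₀ * m⁻¹ * l₀⁻¹)) := by rw [hh]
          _ = _ := by group
      rw [e4]
      exact mul_mem h3 (mul_mem hm (hLB l₀ hl₀ (inv_mem hm)))
    have hin2 : c⁻¹ * (l₀ * c * l₀⁻¹) ∈ V ⊓ centralizer (K₀ : Set H) := by
      refine mul_mem (inv_mem hc) ⟨hconjV l₀ hc.1, mem_centralizer_iff.mpr fun k hk => ?_⟩
      have h5 := mem_centralizer_iff.mp hc.2 k hk
      have h6 := hLc k (hK0L hk) l₀ hl₀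
      have h7 : k * l₀⁻¹ = l₀⁻¹ * k := (Commute.inv_right (h6 : Commute k l₀)).eq
      calc k * (l₀ * c * l₀⁻¹) = (k * l₀) * c * l₀⁻¹ := by group
        _ = l₀ * (k * c) * l₀⁻¹ := by rw [h6]; group
        _ = l₀ * c * (k * l₀⁻¹) := by rw [h5]; group
        _ = l₀ * c * l₀⁻¹ * k := by rw [h7]; group
    have : c⁻¹ * (l₀ * c * l₀⁻¹) ∈ (⊥ : Subgroup H) := hBU ▸ ⟨hin2, hin⟩
    rw [mem_bot, inv_mul_eq_one] at this
    exact this.symm
  have hw₂B : w₂ ∈ B := by rw [hcm, hc1, one_mul]; exact hm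
  have hw₁B : w₁ ∈ B := by
    have := mul_mem h1 (B.inv_mem (hLB a₁ (hL.pow 1 ha) hw₂B))
    rwa [mul_inv_cancel_right] at this
  have huB : u ∈ B := by rw [e]; exact mul_mem hw₁B (hLB a ha hw₂B)
  have : u ∈ (⊥ : Subgroup H) := hBU ▸ ⟨hu, huB⟩
  exact hu1 this

/-- The base configuration. -/
theorem le_Dx_base (hx : x ^ p = 1) (hodd : Odd p) {q s : ℕ}
    [Fact q.Prime] [Fact s.Prime] {V L : Subgroup H} [V.Normal] [IsMulCommutative V]
    (hV : Inv x V) (hL : Inv x L) (hLc : ∀ a ∈ L, ∀ b ∈ L, a * b = b * a)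
    (hVq : IsPGroup q V) (hLs : IsPGroup s L) (hqs : q ≠ s) (hV1 : V ≠ ⊥) (hVL : V ⊔ L = ⊤)
    (hdis : V ⊓ L = ⊥) (hCVL : V ⊓ centralizer (L : Set H) = ⊥) (hLx : L ⊓ Fx x = ⊥)
    (hminV : ∀ B : Subgroup H, B.Normal → Inv x B → B ≤ V → B = ⊥ ∨ B = V)
    (hminL : ∀ B : Subgroup H, Inv x B → B ≤ L → B = ⊥ ∨ B = L) : Fx x ≤ Dx x := by
  by_cases htop : ∃ h : H, cm x h = ⊤
  · obtain ⟨h, hh⟩ := htop
    intro w hw
    exact cm_inf_le_Dx h ⟨by rw [hh]; exact mem_top w, hw⟩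
  exfalso
  push Not at htop
  have hp : p.Prime := Fact.out
  have hcopVL : (Nat.card L).Coprime (Nat.card V) := IsPGroup.coprime_card_of_ne s q hqs.symm L V hLs hVq
  have hVc : ∀ v ∈ V, ∀ v' ∈ V, v * v' = v' * v := fun v hv v' hv' =>
    congrArg Subtype.val (mul_comm (⟨v, hv⟩ : V) ⟨v', hv'⟩)
  have hLV : L ≤ normalizer (V : Set H) := by rw [normalizer_eq_top]; exact le_top
  have hcov : ∀ a ∈ L, a ≠ 1 → ∀ v ∈ V, ∃ w₁ ∈ V ⊓ Fx x, ∃ w₂ ∈ V ⊓ Fx x,
      v = w₁ * (a * w₂ * a⁻¹) := by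
    intro a ha ha1 v hv
    set L' := cm x (v * a) with hL'def
    have hL' : Inv x L' := inv_cm _
    have hcma : cm x a = L := by
      have hle : cm x a ≤ L := (closure_le _).mpr fun _ ⟨i, hi⟩ =>
        hi ▸ mul_mem (inv_mem ha) (hL.pow i ha)
      refine (hminL _ (inv_cm a) hle).resolve_left fun h => ha1 ?_
      have h1 : a⁻¹ * (x ^ 1) a ∈ cm x a := mem_cm a 1
      rw [h, mem_bot, inv_mul_eq_one, pow_one] at h1
      have h2 : a ∈ L ⊓ Fx x := ⟨ha, h1.symm⟩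
      rwa [hLx, mem_bot] at h2
    have hLle : L ≤ L' ⊔ V := by
      rw [← hcma]
      refine (closure_le _).mpr ?_
      rintro _ ⟨i, rfl⟩
      have e : a⁻¹ * (x ^ i) a = (a⁻¹ * (v⁻¹ * (x ^ i) v) * a)⁻¹ * ((v * a)⁻¹ * (x ^ i) (v * a)) := by
        rw [map_mul]; group
      show a⁻¹ * (x ^ i) a ∈ L' ⊔ V
      rw [e]
      refine mul_mem (inv_mem (mem_sup_right ?_)) (mem_sup_left (mem_cm _ i))
      have := ‹V.Normal›.conj_mem _ (mul_mem (inv_mem hv) (hV.pow i hv)) a⁻¹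
      simpa [mul_assoc] using this
    have hsup : L' ⊔ V = ⊤ := eq_top_iff.mpr (hVL ▸ sup_le le_sup_right hLle)
    have hBn : (L' ⊓ V).Normal := by
      refine normalizer_eq_top_iff.mp (eq_top_iff.mpr (hsup ▸ sup_le ?_ ?_))
      · exact fun l hl => inf_normalizer_le_normalizer_inf ⟨le_normalizer hl, by rw [normalizer_eq_top]; exact mem_top l⟩
      · intro v' hv'
        refine centralizer_le_normalizer _ (mem_centralizer_iff.mpr fun z hz => hVc z hz.2 v' hv')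
    rcases hminV _ hBn (hL'.inf hV) inf_le_right with hB | hB
    swap
    · exact absurd (top_le_iff.mp (hsup ▸ sup_le le_rfl (hB ▸ inf_le_left))) (htop _)
    have hL'V : L' ≤ normalizer (V : Set H) := by rw [normalizer_eq_top]; exact le_top
    have hcard : Nat.card L' = Nat.card L := by
      have h1 := Coprime.card_sup_of_le_normalizer hL'V hB
      have h2 := Coprime.card_sup_of_le_normalizer hLV (by rw [inf_comm]; exact hdis)
      rw [hsup] at h1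
      rw [sup_comm L V, hVL] at h2
      exact Nat.eq_of_mul_eq_mul_right Nat.card_pos (h1.symm.trans h2)
    obtain ⟨g, hg, hgL⟩ := Coprime.exists_conj_eq_of_le_sup_of_comm V L L' hLV
      (by rw [sup_comm, hVL]; exact le_top) hcard hcopVL
    have hgmem : ∀ z : H, z ∈ L' ↔ g⁻¹ * z * g ∈ L := fun z => by
      rw [← hgL, Coprime.mem_conj_smul_iff]
    have hgfix : x g = g := by
      have ht : g⁻¹ * x g ∈ V ⊓ centralizer (L : Set H) := by
        refine ⟨mul_mem (V.inv_mem hg) (hV g hg), mem_centralizer_iff.mpr fun l hl => ?_⟩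
        obtain ⟨l', rfl⟩ := x.surjective l
        have hl' : l' ∈ L := (hL.mem_iff hp.ne_zero hx).mp hl
        have h1 : g * l' * g⁻¹ ∈ L' := (hgmem _).mpr (by simpa [mul_assoc] using hl')
        have h2 := (hgmem _).mp (hL' _ h1)
        rw [map_mul, map_mul, map_inv] at h2
        set t := g⁻¹ * x g
        have h3 : t * x l' * t⁻¹ * (x l')⁻¹ ∈ V ⊓ L := by
          refine ⟨?_, mul_mem ?_ (L.inv_mem hl)⟩
          · have htV : t ∈ V := mul_mem (inv_mem hg) (hV g hg)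
            have := mul_mem htV (‹V.Normal›.conj_mem _ (inv_mem htV) (x l'))
            simpa [mul_assoc] using this
          · have e : t * x l' * t⁻¹ = g⁻¹ * (x g * x l' * (x g)⁻¹) * g := by
              simp only [t]; group
            rw [e]; exact h2
        rw [hdis, mem_bot, mul_inv_eq_one, mul_inv_eq_iff_eq_mul] at h3
        exact h3.symm
      rw [hCVL, mem_bot, inv_mul_eq_one] at ht
      exact ht.symm
    have ha' : g * a * g⁻¹ ∈ L' := (hgmem _).mpr (by simpa [mul_assoc] using ha)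
    set w := v * a * (g * a * g⁻¹)⁻¹ with hwdef
    have hwV : w ∈ V := by
      have := mul_mem (mul_mem hv (‹V.Normal›.conj_mem g hg a)) (inv_mem hg)
      have e : w = v * (a * g * a⁻¹) * g⁻¹ := by rw [hwdef]; group
      rw [e]; exact this
    have hwfix : x w = w := by
      have h1 : w⁻¹ * x w ∈ L' ⊓ V := by
        refine ⟨?_, mul_mem (V.inv_mem hwV) (hV w hwV)⟩
        have e : w⁻¹ * x w = (g * a * g⁻¹) * ((v * a)⁻¹ * (x ^ 1) (v * a)) *
            (x (g * a * g⁻¹))⁻¹ := by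
          rw [hwdef, pow_one, map_mul, map_mul, map_inv]; group
        rw [e]
        exact mul_mem (mul_mem ha' (mem_cm _ 1)) (L'.inv_mem (hL' _ ha'))
      rw [hB, mem_bot, inv_mul_eq_one] at h1
      exact h1.symm
    refine ⟨w * g, ⟨mul_mem hwV hg, mul_mem hwfix hgfix⟩, g⁻¹, inv_mem ⟨hg, hgfix⟩, ?_⟩
    rw [hwdef]; group
  have hL1 : L ≠ ⊥ := by
    intro h
    apply hV1
    rw [← hCVL, h]
    exact (inf_eq_left.mpr fun v _ => mem_centralizer_iff.mpr fun z hz => by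
      rw [(mem_bot.mp hz : z = 1), one_mul, mul_one]).symm
  obtain ⟨K₀, hK₀⟩ := (Set.toFinite {K : Subgroup H | K ≤ L ∧ V ⊓ centralizer (K : Set H) ≠ ⊥}).exists_maximal
    ⟨⊥, bot_le, by
      rw [inf_eq_left.mpr fun v _ => mem_centralizer_iff.mpr fun z hz => by
        rw [(mem_bot.mp hz : z = 1), one_mul, mul_one]]
      exact hV1⟩
  obtain ⟨hK₀L, hU⟩ := hK₀.1
  have hmax : ∀ a ∈ L, a ∉ K₀ → ∀ v ∈ V ⊓ centralizer (K₀ : Set H),
      a * v * a⁻¹ = v → v = 1 := by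
    intro a ha haK v hv hav
    by_contra hv1
    have hmem : V ⊓ centralizer ((K₀ ⊔ zpowers a : Subgroup H) : Set H) ≠ ⊥ := by
      intro hbot
      apply hv1
      have hle : K₀ ⊔ zpowers a ≤ centralizer ({v} : Set H) := by
        refine sup_le (fun k hk => mem_centralizer_singleton_iff.mpr ?_) (zpowers_le.mpr ?_)
        · exact mem_centralizer_iff.mp hv.2 k hk
        · exact mem_centralizer_singleton_iff.mpr (mul_inv_eq_iff_eq_mul.mp hav)
      have : v ∈ V ⊓ centralizer ((K₀ ⊔ zpowers a : Subgroup H) : Set H) :=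
        ⟨hv.1, mem_centralizer_iff.mpr fun k hk => mem_centralizer_singleton_iff.mp (hle hk)⟩
      rwa [hbot, mem_bot] at this
    exact haK (hK₀.2 ⟨sup_le hK₀L (zpowers_le.mpr ha), hmem⟩ le_sup_left (mem_sup_right (mem_zpowers a)))
  by_cases hK₀bot : K₀ = ⊥
  · refine hV1 (eq_bot_of_fpf hx hodd hLc hL hLx hL1 (fun a ha ha1 v hv hav => ?_) hcov)
    refine hmax a ha (by rwa [hK₀bot, mem_bot]) v ⟨hv, mem_centralizer_iff.mpr fun z hz => ?_⟩ hav
    rw [hK₀bot] at hz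
    rw [(mem_bot.mp hz : z = 1), one_mul, mul_one]
  · refine false_of_blocks hx hodd hV hLc hL hLx hcopVL hK₀L hU hmax (fun hinv => ?_) hcov
    rcases hminL K₀ hinv hK₀L with h | h
    · exact hK₀bot h
    · exact hU (h ▸ hCVL)

end Cfsg.Agent.FixedComm
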