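import Mathlib.GroupTheory.Abelianization.Defs
import Mathlib.GroupTheory.QuotientGroup.Basic
import Mathlib.GroupTheory.Perm.Cycle.Type
import Mathlib.GroupTheory.Solvable
import Mathlib.Tactic.Group

/-!
# Fixed points of a coprime automorphism of prime order inside commutator subgroups `[h, x]`

`cm x h = [h, ⟨x⟩]`, `CPof x K = [K, ⟨x⟩]`, `Fx x = C(x)`, `Dx x = ⟨C_{[h,x]}(x)⟩`.
-/

set_option autoImplicit false

namespace Cfsg.Agent.FixedComm

open Subgroup

variable {H : Type*} [Group H] (x : MulAut H)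

/-- The fixed points. -/
def Fx : Subgroup H := (x : H →* H).eqLocus (MonoidHom.id H)

/-- `[h, ⟨x⟩]`. -/
def cm (h : H) : Subgroup H := closure {c : H | ∃ i : ℕ, c = h⁻¹ * (x ^ i) h}

/-- `[K, ⟨x⟩]`. -/
def CPof (K : Subgroup H) : Subgroup H := closure {c : H | ∃ k ∈ K, ∃ i : ℕ, c = k⁻¹ * (x ^ i) k}

/-- The subgroup generated by the `C_{[h,⟨x⟩]}(x)`. -/
def Dx : Subgroup H := ⨆ h : H, cm x h ⊓ Fx x

/-- `K` is invariant. -/
def Inv (K : Subgroup H) : Prop := ∀ k ∈ K, x k ∈ K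

variable {x}

theorem mem_Fx {h : H} : h ∈ Fx x ↔ x h = h := Iff.rfl

theorem pow_succ_apply (i : ℕ) (h : H) : (x ^ (i + 1)) h = x ((x ^ i) h) := by
  rw [pow_succ', MulAut.mul_apply]

theorem pow_succ_apply' (i : ℕ) (h : H) : (x ^ (i + 1)) h = (x ^ i) (x h) := by
  rw [pow_succ, MulAut.mul_apply]

theorem fixed_pow {h : H} (hh : h ∈ Fx x) : ∀ i : ℕ, (x ^ i) h = h := by
  intro i
  induction i with
  | zero => simp
  | succ i ih => rw [pow_succ_apply, ih, mem_Fx.mp hh]

theorem Inv.pow {K : Subgroup H} (hK : Inv x K) : ∀ (i : ℕ) {k : H}, k ∈ K → (x ^ i) k ∈ K := by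
  intro i
  induction i with
  | zero => intro k hk; simpa using hk
  | succ i ih => intro k hk; rw [pow_succ_apply]; exact hK _ (ih hk)

theorem Inv.mem_iff {K : Subgroup H} (hK : Inv x K) {p : ℕ} (hp : p ≠ 0) (hx : x ^ p = 1) {k : H} :
    x k ∈ K ↔ k ∈ K := by
  refine ⟨fun h => ?_, hK k⟩
  have h1 := hK.pow (p - 1) h
  rwa [← pow_succ_apply', Nat.sub_add_cancel (Nat.pos_of_ne_zero hp), hx] at h1

theorem Inv.inf {A B : Subgroup H} (hA : Inv x A) (hB : Inv x B) : Inv x (A ⊓ B) :=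
  fun k hk => ⟨hA k hk.1, hB k hk.2⟩

theorem inv_iff_map_le {K : Subgroup H} : Inv x K ↔ K.map (x : H →* H) ≤ K :=
  ⟨fun h => by rintro _ ⟨k, hk, rfl⟩; exact h k hk, fun h k hk => h ⟨k, hk, rfl⟩⟩

theorem Inv.sup {A B : Subgroup H} (hA : Inv x A) (hB : Inv x B) : Inv x (A ⊔ B) := by
  rw [inv_iff_map_le, Subgroup.map_sup]
  exact sup_le_sup (inv_iff_map_le.mp hA) (inv_iff_map_le.mp hB)

theorem Inv.iSup {ι : Sort*} {A : ι → Subgroup H} (hA : ∀ i, Inv x (A i)) : Inv x (⨆ i, A i) := by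
  rw [inv_iff_map_le, Subgroup.map_iSup]
  exact iSup_mono fun i => inv_iff_map_le.mp (hA i)

theorem inv_top : Inv x (⊤ : Subgroup H) := fun _ _ => mem_top _

theorem inv_Fx : Inv x (Fx x) := fun k hk => (mem_Fx.mp hk).symm ▸ hk

theorem Inv.commutator {A B : Subgroup H} (hA : Inv x A) (hB : Inv x B) : Inv x ⁅A, B⁆ := by
  rw [inv_iff_map_le, Subgroup.map_commutator]
  exact commutator_mono (inv_iff_map_le.mp hA) (inv_iff_map_le.mp hB)

theorem Inv.centralizer {A : Subgroup H} (hA : Inv x A) {p : ℕ} (hp : p ≠ 0) (hx : x ^ p = 1) :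
    Inv x (centralizer (A : Set H)) := by
  intro c hc
  rw [mem_centralizer_iff] at hc ⊢
  intro a ha
  obtain ⟨b, rfl⟩ := x.surjective a
  rw [← map_mul, ← map_mul, hc b ((hA.mem_iff hp hx).mp ha)]

theorem inv_cm (h : H) : Inv x (cm x h) := by
  intro k hk
  induction hk using closure_induction with
  | mem c hc =>
    obtain ⟨i, rfl⟩ := hc
    have e : x (h⁻¹ * (x ^ i) h) = (h⁻¹ * x h)⁻¹ * (h⁻¹ * (x ^ (i + 1)) h) := by
      rw [map_mul, map_inv, pow_succ_apply]
      group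
    rw [e]
    exact mul_mem (inv_mem (subset_closure ⟨1, by rw [pow_one]⟩)) (subset_closure ⟨i + 1, rfl⟩)
  | one => rw [map_one]; exact one_mem _
  | mul a b _ _ iha ihb => rw [map_mul]; exact mul_mem iha ihb
  | inv a _ iha => rw [map_inv]; exact inv_mem iha

theorem mem_cm (h : H) (i : ℕ) : h⁻¹ * (x ^ i) h ∈ cm x h := subset_closure ⟨i, rfl⟩

theorem inv_mul_mem_CPof {K : Subgroup H} {k : H} (hk : k ∈ K) (i : ℕ) :
    k⁻¹ * (x ^ i) k ∈ CPof x K := subset_closure ⟨k, hk, i, rfl⟩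

theorem cm_le_CPof {K : Subgroup H} {k : H} (hk : k ∈ K) : cm x k ≤ CPof x K :=
  (closure_le _).mpr fun _ ⟨i, hi⟩ => hi ▸ inv_mul_mem_CPof hk i

theorem CPof_mono {A B : Subgroup H} (h : A ≤ B) : CPof x A ≤ CPof x B :=
  closure_mono fun _ ⟨k, hk, i, hi⟩ => ⟨k, h hk, i, hi⟩

theorem CPof_le {K : Subgroup H} (hK : Inv x K) : CPof x K ≤ K :=
  (closure_le _).mpr fun _ ⟨_, hk, i, hi⟩ => hi ▸ mul_mem (inv_mem hk) (hK.pow i hk)

theorem inv_CPof {K : Subgroup H} (hK : Inv x K) : Inv x (CPof x K) := by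
  intro k hk
  induction hk using closure_induction with
  | mem c hc =>
    obtain ⟨k, hk, i, rfl⟩ := hc
    rw [map_mul, map_inv, ← pow_succ_apply, pow_succ_apply']
    exact inv_mul_mem_CPof (hK k hk) i
  | one => rw [map_one]; exact one_mem _
  | mul a b _ _ iha ihb => rw [map_mul]; exact mul_mem iha ihb
  | inv a _ iha => rw [map_inv]; exact inv_mem iha

theorem conj_mem_CPof {K : Subgroup H} {k c : H} (hk : k ∈ K) (hc : c ∈ CPof x K) :
    k⁻¹ * c * k ∈ CPof x K := by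
  induction hc using closure_induction with
  | mem c hc =>
    obtain ⟨a, ha, i, rfl⟩ := hc
    have e : k⁻¹ * (a⁻¹ * (x ^ i) a) * k =
        ((a * k)⁻¹ * (x ^ i) (a * k)) * (k⁻¹ * (x ^ i) k)⁻¹ := by
      rw [map_mul]; group
    rw [e]
    exact mul_mem (inv_mul_mem_CPof (mul_mem ha hk) i) (inv_mem (inv_mul_mem_CPof hk i))
  | one => simp
  | mul a b _ _ iha ihb => simpa [mul_assoc] using mul_mem iha ihb
  | inv a _ iha => simpa [mul_assoc] using inv_mem iha

theorem CPof_normalizer {K : Subgroup H} : K ≤ normalizer (CPof x K : Set H) := by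
  intro k hk
  rw [mem_normalizer_iff]
  intro c
  constructor
  · intro hc
    have := conj_mem_CPof (K.inv_mem hk) hc
    rwa [inv_inv] at this
  · intro hc
    have := conj_mem_CPof hk hc
    simpa [mul_assoc] using this

theorem conj_mem_cm {h c y : H} (hc : c ∈ Fx x) (hy : y ∈ cm x h) :
    c⁻¹ * y * c ∈ cm x (h * c) := by
  induction hy using closure_induction with
  | mem y hy =>
    obtain ⟨i, rfl⟩ := hy
    refine subset_closure ⟨i, ?_⟩
    rw [map_mul, fixed_pow hc]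
    group
  | one => simp
  | mul a b _ _ iha ihb => simpa [mul_assoc] using mul_mem iha ihb
  | inv a _ iha => simpa [mul_assoc] using inv_mem iha

theorem conj_mem_CPof_cm {h c y : H} (hc : c ∈ Fx x) (hy : y ∈ CPof x (cm x h)) :
    c⁻¹ * y * c ∈ CPof x (cm x (h * c)) := by
  induction hy using closure_induction with
  | mem y hy =>
    obtain ⟨k, hk, i, rfl⟩ := hy
    have e : c⁻¹ * (k⁻¹ * (x ^ i) k) * c = (c⁻¹ * k * c)⁻¹ * (x ^ i) (c⁻¹ * k * c) := by
      rw [map_mul, map_mul, map_inv, fixed_pow hc]; group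
    rw [e]
    exact inv_mul_mem_CPof (conj_mem_cm hc hk) i
  | one => simp
  | mul a b _ _ iha ihb => simpa [mul_assoc] using mul_mem iha ihb
  | inv a _ iha => simpa [mul_assoc] using inv_mem iha

theorem cm_inf_le_Dx (h : H) : cm x h ⊓ Fx x ≤ Dx x := le_iSup (fun h => cm x h ⊓ Fx x) h

theorem Dx_le_Fx : Dx x ≤ Fx x := iSup_le fun _ => inf_le_right

/-- `C(x)` normalises `D`. -/
theorem Fx_le_normalizer_Dx : Fx x ≤ normalizer (Dx x : Set H) := by
  have key : ∀ c ∈ Fx x, ∀ y ∈ Dx x, c⁻¹ * y * c ∈ Dx x := by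
    intro c hc y hy
    induction hy using iSup_induction' with
    | hp h y hy =>
      exact cm_inf_le_Dx (h * c) ⟨conj_mem_cm hc hy.1, mul_mem (mul_mem ((Fx x).inv_mem hc) hy.2) hc⟩
    | h1 => simp
    | hmul a b _ _ iha ihb => simpa [mul_assoc] using mul_mem iha ihb
  intro c hc
  rw [mem_normalizer_iff]
  intro y
  constructor
  · intro hy
    have := key c⁻¹ (inv_mem hc) y hy
    rwa [inv_inv] at this
  · intro hy
    have := key c hc _ hy
    simpa [mul_assoc] using this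

section finite

variable [Finite H] {p : ℕ} [Fact p.Prime]

/-- An invariant coset of a subgroup of order prime to `p` contains a fixed point. -/
theorem fixed_in_coset (hx : x ^ p = 1) {M : Subgroup H} (hM : Inv x M)
    (hcop : ¬ p ∣ Nat.card M) {y : H} (hy : x y * y⁻¹ ∈ M) :
    ∃ c ∈ Fx x, c * y⁻¹ ∈ M := by
  classical
  let α := {z : H // z * y⁻¹ ∈ M}
  haveI : Fintype α := Fintype.ofFinite α
  let f : α → α := fun z => ⟨x z.1, by
    have e : x z.1 * y⁻¹ = x (z.1 * y⁻¹) * (x y * y⁻¹) := by rw [map_mul, map_inv]; group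
    rw [e]
    exact mul_mem (hM _ z.2) hy⟩
  have hf : Function.Injective f := fun a b hab =>
    Subtype.ext (x.injective (congrArg Subtype.val hab))
  let σ : Equiv.Perm α := Equiv.ofBijective f (Finite.injective_iff_bijective.mp hf)
  have hcard : Fintype.card α = Nat.card M := by
    rw [← Nat.card_eq_fintype_card]
    exact Nat.card_congr
      { toFun := fun z => ⟨z.1 * y⁻¹, z.2⟩
        invFun := fun m => ⟨m.1 * y, by simp⟩
        left_inv := fun z => by simp
        right_inv := fun m => by simp }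
  have hpow : ∀ (i : ℕ) (z : α), ((σ ^ i) z).1 = (x ^ i) z.1 := by
    intro i
    induction i with
    | zero => intro z; simp
    | succ i ih =>
      intro z
      rw [pow_succ', Equiv.Perm.mul_apply, pow_succ_apply, ← ih]
      rfl
  obtain ⟨z, hz⟩ := Equiv.Perm.exists_fixed_point_of_prime (n := 1) (hcard ▸ hcop) (σ := σ) (by
    rw [pow_one]
    exact Equiv.ext fun z => Subtype.ext (by rw [hpow, hx]; rfl))
  exact ⟨z.1, congrArg Subtype.val hz, z.2⟩

omit [Finite H] [Fact p.Prime] in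
theorem not_dvd_card (hcop : (Nat.card H).Coprime p) [hp : Fact p.Prime] (M : Subgroup H) :
    ¬ p ∣ Nat.card M := fun h =>
  hp.out.coprime_iff_not_dvd.mp hcop.symm (h.trans (card_subgroup_dvd_card M))

variable (hx : x ^ p = 1) (hcop : (Nat.card H).Coprime p)
include hx hcop

/-- `K = [K, x] C_K(x)`. -/
theorem exists_decomp {K : Subgroup H} (hK : Inv x K) {k : H} (hk : k ∈ K) :
    ∃ m ∈ CPof x K, ∃ c ∈ K ⊓ Fx x, k = m * c := by
  have h1 : x k * k⁻¹ ∈ CPof x K := by
    have := conj_mem_CPof (K.inv_mem hk) (inv_mul_mem_CPof (x := x) hk 1)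
    simpa [mul_assoc] using this
  obtain ⟨c, hc, hck⟩ := fixed_in_coset hx (inv_CPof hK) (not_dvd_card hcop _) h1
  have hcK : c ∈ K := by
    have := mul_mem (CPof_le hK hck) hk
    simpa using this
  exact ⟨k * c⁻¹, by simpa using inv_mem hck, c, ⟨hcK, hc⟩, by group⟩

theorem CPof_CPof {K : Subgroup H} (hK : Inv x K) : CPof x (CPof x K) = CPof x K := by
  refine le_antisymm (CPof_mono (CPof_le hK)) ((closure_le _).mpr ?_)
  rintro _ ⟨k, hk, i, rfl⟩
  obtain ⟨m, hm, c, hc, rfl⟩ := exists_decomp hx hcop hK hk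
  have hm' : c⁻¹ * m * c ∈ CPof x K := conj_mem_CPof hc.1 hm
  have e : (m * c)⁻¹ * (x ^ i) (m * c) = (c⁻¹ * m * c)⁻¹ * (x ^ i) (c⁻¹ * m * c) := by
    simp only [map_mul, map_inv, fixed_pow hc.2]
    group
  rw [e]
  exact inv_mul_mem_CPof hm' i

/-- The fixed points of `Y₁ Y₂` are products of fixed points. -/
theorem sup_inf_Fx {Y₁ Y₂ : Subgroup H} (h₁ : Inv x Y₁) (h₂ : Inv x Y₂)
    (hn : Y₁ ≤ normalizer (Y₂ : Set H)) :
    (Y₁ ⊔ Y₂) ⊓ Fx x ≤ (Y₁ ⊓ Fx x) ⊔ (Y₂ ⊓ Fx x) := by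
  rintro w ⟨hw, hwf⟩
  replace hw : w ∈ ((Y₁ ⊔ Y₂ : Subgroup H) : Set H) := hw
  rw [coe_mul_of_left_le_normalizer_right Y₁ Y₂ hn] at hw
  obtain ⟨a, ha, b, hb, rfl⟩ := hw
  have h0 : x a * x b = a * b := by rw [← map_mul]; exact hwf
  have h1 : x a * a⁻¹ ∈ Y₁ ⊓ Y₂ := by
    refine ⟨mul_mem (h₁ a ha) (Y₁.inv_mem ha), ?_⟩
    have e : x a * a⁻¹ = a * (b * (x b)⁻¹) * a⁻¹ := by
      rw [eq_mul_inv_iff_mul_eq.mpr h0]
      group
    rw [e]
    exact (mem_normalizer_iff.mp (hn ha) _).mp (mul_mem hb (Y₂.inv_mem (h₂ b hb)))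
  obtain ⟨c, hc, hca⟩ := fixed_in_coset hx (h₁.inf h₂) (not_dvd_card hcop _) h1
  have hcY : c ∈ Y₁ := by
    have := mul_mem hca.1 ha
    simpa using this
  have e : a * b = c * (c⁻¹ * (a * b)) := by group
  show a * b ∈ _
  rw [e]
  refine mul_mem (mem_sup_left ⟨hcY, hc⟩) (mem_sup_right ⟨?_, mul_mem ((Fx x).inv_mem hc) hwf⟩)
  have e2 : c⁻¹ * (a * b) = c⁻¹ * (c * a⁻¹)⁻¹ * c * b := by group
  rw [e2]
  exact mul_mem (by
    have := (mem_normalizer_iff.mp (hn (inv_mem hcY)) _).mp (inv_mem hca.2)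
    simpa using this) hb

/-- The fixed points of a product of invariant subgroups of an abelian group. -/
theorem iSup_inf_Fx_le {ι : Type*} [Fintype ι] {A : Subgroup H} [IsMulCommutative A]
    (Y : ι → Subgroup H) (hY : ∀ i, Inv x (Y i)) (hYA : ∀ i, Y i ≤ A) {D : Subgroup H}
    (hD : ∀ i, Y i ⊓ Fx x ≤ D) : (⨆ i, Y i) ⊓ Fx x ≤ D := by
  classical
  have key : ∀ s : Finset ι, Inv x (⨆ i ∈ s, Y i) ∧ (⨆ i ∈ s, Y i) ≤ A ∧
      (⨆ i ∈ s, Y i) ⊓ Fx x ≤ D := by
    intro s
    induction s using Finset.induction with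
    | empty => simp [Inv]
    | @insert a s ha ih =>
      obtain ⟨h1, h2, h3⟩ := ih
      rw [Finset.iSup_insert]
      refine ⟨(hY a).sup h1, sup_le (hYA a) h2, ?_⟩
      refine (sup_inf_Fx hx hcop (hY a) h1 ?_).trans (sup_le (hD a) h3)
      exact (hYA a).trans ((le_centralizer_of_isMulCommutative A).trans
        ((centralizer_le h2).trans (centralizer_le_normalizer _)))
  simpa using (key Finset.univ).2.2
where
  le_centralizer_of_isMulCommutative (A : Subgroup H) [IsMulCommutative A] :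
      A ≤ centralizer (A : Set H) := fun a ha => mem_centralizer_iff.mpr fun b hb =>
    congrArg Subtype.val (mul_comm' (⟨b, hb⟩ : A) ⟨a, ha⟩)

/-- The images of the `CPof (cm h)` generate when `[H, x] = H`. -/
theorem iSup_CPof_cm_eq_top (hCP : CPof x ⊤ = ⊤) : (⨆ h : H, CPof x (cm x h)) = ⊤ := by
  set X := ⨆ h : H, CPof x (cm x h) with hX
  have key : ∀ c ∈ Fx x, ∀ y ∈ X, c⁻¹ * y * c ∈ X := by
    intro c hc y hy
    induction hy using iSup_induction' with
    | hp h y hy => exact mem_iSup_of_mem (h * c) (conj_mem_CPof_cm hc hy)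
    | h1 => simp
    | hmul a b _ _ iha ihb => simpa [mul_assoc] using mul_mem iha ihb
  have hXinv : Inv x X := Inv.iSup fun h => inv_CPof (inv_cm h)
  have hall : ∀ g : H, ∃ m ∈ X, ∃ c ∈ Fx x, g = m * c := by
    intro g
    have hg : g ∈ CPof x ⊤ := by rw [hCP]; exact mem_top g
    induction hg using closure_induction with
    | mem g hg =>
      obtain ⟨h, -, i, rfl⟩ := hg
      obtain ⟨m, hm, c, hc, e⟩ := exists_decomp hx hcop (inv_cm h) (mem_cm (x := x) h i)
      exact ⟨m, mem_iSup_of_mem h hm, c, hc.2, e⟩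
    | one => exact ⟨1, one_mem _, 1, one_mem _, by simp⟩
    | mul a b _ _ iha ihb =>
      obtain ⟨m, hm, c, hc, rfl⟩ := iha
      obtain ⟨m', hm', c', hc', rfl⟩ := ihb
      refine ⟨m * (c * m' * c⁻¹), mul_mem hm ?_, c * c', mul_mem hc hc', by group⟩
      have := key c⁻¹ (inv_mem hc) m' hm'
      rwa [inv_inv] at this
    | inv a _ iha =>
      obtain ⟨m, hm, c, hc, rfl⟩ := iha
      exact ⟨c⁻¹ * m⁻¹ * c, key c hc _ (inv_mem hm), c⁻¹, inv_mem hc, by group⟩
  rw [eq_top_iff, ← hCP]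
  refine (closure_le _).mpr ?_
  rintro _ ⟨h, -, i, rfl⟩
  obtain ⟨m, hm, c, hc, rfl⟩ := hall h
  have e : (m * c)⁻¹ * (x ^ i) (m * c) = c⁻¹ * (m⁻¹ * (x ^ i) m) * c := by
    rw [map_mul, fixed_pow hc]; group
  show (m * c)⁻¹ * (x ^ i) (m * c) ∈ X
  rw [e]
  exact key c hc _ (mul_mem (inv_mem hm) (hXinv.pow i hm))

end finite

section derived

variable [Finite H]

/-- If `[H, x] = H`, the fixed points lie in the derived subgroup, and `h ↦ h⁻¹ x(h)` is onto
modulo it. -/
theorem abelianization_facts (hCP : CPof x ⊤ = ⊤) :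
    Fx x ≤ _root_.commutator H ∧
      ∀ k : H, ∃ h : H, ∃ z ∈ _root_.commutator H, k = h⁻¹ * x h * z := by
  haveI : Finite (Abelianization H) := inferInstanceAs (Finite (H ⧸ _root_.commutator H))
  set xb := Abelianization.map (x : H →* H) with hxb
  let g : Abelianization H →* Abelianization H :=
    { toFun := fun a => a⁻¹ * xb a
      map_one' := by simp
      map_mul' := fun a b => by
        rw [map_mul, mul_inv]
        exact mul_mul_mul_comm _ _ _ _ }
  have hg : ∀ h : H, g (Abelianization.of h) = Abelianization.of (h⁻¹ * x h) := fun h => by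
    simp [g, hxb, map_mul]
  have hsurj : Function.Surjective g := by
    intro a
    obtain ⟨k, rfl⟩ := QuotientGroup.mk_surjective a
    have hk : k ∈ CPof x ⊤ := by rw [hCP]; exact mem_top k
    suffices Abelianization.of k ∈ g.range from this
    induction hk using closure_induction with
    | mem c hc =>
      obtain ⟨h, -, i, rfl⟩ := hc
      induction i with
      | zero => simp
      | succ i ih =>
        have e : h⁻¹ * (x ^ (i + 1)) h =
            (h⁻¹ * (x ^ i) h) * (((x ^ i) h)⁻¹ * x ((x ^ i) h)) := by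
          rw [pow_succ_apply]; group
        rw [e, map_mul, ← hg]
        exact mul_mem ih ⟨_, rfl⟩
    | one => rw [map_one]; exact one_mem _
    | mul a b _ _ iha ihb => rw [map_mul]; exact mul_mem iha ihb
    | inv a _ iha => rw [map_inv]; exact inv_mem iha
  refine ⟨fun w hw => ?_, fun k => ?_⟩
  · have h1 : g (Abelianization.of w) = g 1 := by
      rw [hg, map_one, mem_Fx.mp hw, inv_mul_cancel, map_one]
    have h2 := Finite.injective_iff_surjective.mpr hsurj h1
    exact (QuotientGroup.eq_one_iff w).mp h2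
  · obtain ⟨a, ha⟩ := hsurj (Abelianization.of k)
    obtain ⟨h, rfl⟩ := QuotientGroup.mk_surjective a
    refine ⟨h, (h⁻¹ * x h)⁻¹ * k, ?_, by group⟩
    exact QuotientGroup.eq.mp ((hg h).symm.trans ha)

end derived

end Cfsg.Agent.FixedComm
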