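import Cfsg.Agent.Lib.FixedComm.Base
import Mathlib.GroupTheory.Transfer

/-!
# `C_{[H,x]}(x) = ⟨C_{[h,x]}(x) : h ∈ H⟩` for a coprime automorphism of odd prime order of a
solvable group (Flavell)

`fixed_CPof_eq`.
-/

set_option autoImplicit false
set_option linter.style.haveILetI false

namespace Cfsg.Agent.FixedComm

open Subgroup
open scoped Pointwise commutatorElement

universe u

variable {H : Type u} [Group H] [Finite H] {p : ℕ} [Fact p.Prime] {x : MulAut H}

omit [Finite H] [Fact p.Prime] in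
theorem exists_pow_eq_of_coprime_pow {D : Subgroup H} {w : H} {n : ℕ}
    (hn : n.Coprime (orderOf w)) (h : w ^ n ∈ D) : w ∈ D := by
  obtain ⟨m, hm⟩ := exists_pow_eq_self_of_coprime hn
  exact hm ▸ pow_mem h m

/-- A central minimal normal subgroup. -/
theorem le_Dx_of_central [Group.IsSolvable H] (hx : x ^ p = 1) (hcop : (Nat.card H).Coprime p)
    (hodd : Odd p) (IH : Smaller p H) (hCP : CPof x ⊤ = ⊤) {q : ℕ} [Fact q.Prime]
    {V : Subgroup H} [V.Normal] (hV : Inv x V) (hV1 : V ≠ ⊥) (hVq : IsPGroup q V)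
    (hVc : V ≤ center H) {w : H} (hw : w ∈ V) (hwf : x w = w) : w ∈ Dx x := by
  classical
  -- an invariant Sylow subgroup
  obtain ⟨Q, hQ⟩ : ∃ Q : Sylow q H, Inv x (Q : Subgroup H) := by
    have hcard : ¬ p ∣ Nat.card (Sylow q H) := fun h =>
      not_dvd_card hcop ⊤ ((h.trans ((default : Sylow q H).card_dvd_index.trans
        (index_dvd_card _))).trans (by rw [card_top]))
    haveI := Fintype.ofFinite (Sylow q H)
    obtain ⟨Q, hQ⟩ := Equiv.Perm.exists_fixed_point_of_prime (n := 1) (α := Sylow q H)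
      (by rwa [← Nat.card_eq_fintype_card]) (σ := MulAction.toPerm x) (by
        rw [pow_one, ← MulAction.toPermHom_apply, ← map_pow, hx, map_one])
    refine ⟨Q, fun k hk => ?_⟩
    have h1 : x • k ∈ x • (Q : Subgroup H) := smul_mem_pointwise_smul k x _ hk
    rw [← Sylow.pointwise_smul_def] at h1
    have hQ' : x • Q = Q := hQ
    rw [hQ'] at h1
    exact h1
  have hVQ : V ≤ (Q : Subgroup H) := by
    have := Q.3 (Q.2.to_sup_of_normal_right hVq) le_sup_left
    exact le_sup_right.trans this.le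
  by_cases hQt : (Q : Subgroup H) = ⊤
  · have hq : IsPGroup q H := by
      have := Q.2
      rw [hQt] at this
      exact this.of_equiv Subgroup.topEquiv
    exact le_Dx_of_isPGroup hx hcop hodd IH hCP hq hwf
  -- transfer
  have hcen : ∀ g : H, g * w = w * g := fun g => mem_center_iff.mp (hVc hw) g
  have hkey : ∀ (k : ℕ) (g₀ : H), g₀⁻¹ * w ^ k * g₀ ∈ (Q : Subgroup H) →
      g₀⁻¹ * w ^ k * g₀ = w ^ k := fun k g₀ _ => by
    rw [mul_assoc, ← ((show Commute g₀ w from hcen g₀).pow_right k).eq, inv_mul_cancel_left]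
  have h1 : MonoidHom.transfer (Abelianization.of : (Q : Subgroup H) →* Abelianization Q) w = 1 :=
    Abelianization.commutator_subset_ker _ ((abelianization_facts hCP).1 hwf)
  rw [MonoidHom.transfer_eq_pow _ w hkey] at h1
  have h2 : w ^ (Q : Subgroup H).index ∈ ⁅(Q : Subgroup H), (Q : Subgroup H)⁆ := by
    rw [← map_subtype_commutator]
    exact ⟨_, (QuotientGroup.eq_one_iff _).mp h1, rfl⟩
  have hwQ : w ∈ ⁅(Q : Subgroup H), (Q : Subgroup H)⁆ := by
    refine exists_pow_eq_of_coprime_pow ?_ h2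
    obtain ⟨j, hj⟩ := IsPGroup.iff_orderOf.mp hVq ⟨w, hw⟩
    rw [Subgroup.orderOf_mk] at hj
    rw [hj]
    exact Nat.Coprime.pow_right j
      ((Fact.out : q.Prime).coprime_iff_not_dvd.mpr Q.not_dvd_index).symm
  set Q0 := CPof x (Q : Subgroup H) with hQ0
  set E := (Q : Subgroup H) ⊓ Fx x with hE
  have hQ0n : (Q : Subgroup H) ≤ normalizer (Q0 : Set H) := CPof_normalizer
  have hcl : ∀ g ∈ (Q : Subgroup H), ∀ m ∈ Q0, g * m * g⁻¹ ∈ Q0 := fun g hg m hm =>
    (mem_normalizer_iff.mp (hQ0n hg) m).mp hm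
  have hsub : ⁅(Q : Subgroup H), (Q : Subgroup H)⁆ ≤ Q0 ⊔ ⁅E, E⁆ := by
    refine commutator_le.mpr fun g₁ hg₁ g₂ hg₂ => ?_
    obtain ⟨m, hm, c, hc, rfl⟩ := exists_decomp hx hcop hQ hg₁
    obtain ⟨m', hm', c', hc', rfl⟩ := exists_decomp hx hcop hQ hg₂
    have e : ⁅m * c, m' * c'⁆ = m * (c * m' * c⁻¹) *
        ((c * c' * c⁻¹) * m⁻¹ * (c * c' * c⁻¹)⁻¹) * (⁅c, c'⁆ * m'⁻¹ * ⁅c, c'⁆⁻¹) * ⁅c, c'⁆ := by
      simp only [commutatorElement_def]; group
    have hcQ : c * c' * c⁻¹ ∈ (Q : Subgroup H) := mul_mem (mul_mem hc.1 hc'.1) (inv_mem hc.1)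
    rw [e]
    exact mul_mem (mem_sup_left (mul_mem (mul_mem (mul_mem hm (hcl c hc.1 m' hm'))
      (hcl _ hcQ _ (inv_mem hm)))
      (hcl _ (mul_mem hcQ (inv_mem hc'.1)) _ (inv_mem hm'))))
      (mem_sup_right (commutator_mem_commutator hc hc'))
  have hEE : ⁅E, E⁆ ≤ Dx x ⊓ (Q : Subgroup H) := by
    refine commutator_le.mpr fun c hc c' hc' => ⟨?_, mul_mem (mul_mem (mul_mem hc.1 hc'.1)
      ((Q : Subgroup H).inv_mem hc.1)) ((Q : Subgroup H).inv_mem hc'.1)⟩
    obtain ⟨d, hd, n, hn, rfl⟩ := quotient_step hx hcop IH hCP hV hV1 hc.2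
    obtain ⟨d', hd', n', hn', rfl⟩ := quotient_step hx hcop IH hCP hV hV1 hc'.2
    have hz : ∀ n ∈ V, ∀ g : H, g * n = n * g := fun n hn g => mem_center_iff.mp (hVc hn) g
    have e : ⁅d * n, d' * n'⁆ = ⁅d, d'⁆ := by
      simp only [commutatorElement_def, mul_inv_rev]
      calc d * n * (d' * n') * (n⁻¹ * d⁻¹) * (n'⁻¹ * d'⁻¹)
          = d * (n * d') * n' * n⁻¹ * d⁻¹ * n'⁻¹ * d'⁻¹ := by group
        _ = d * d' * (n * n') * n⁻¹ * d⁻¹ * n'⁻¹ * d'⁻¹ := by rw [← hz n hn.1 d']; group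
        _ = d * d' * (n' * d⁻¹) * n'⁻¹ * d'⁻¹ := by rw [← hz n hn.1 n']; group
        _ = _ := by rw [← hz n' hn'.1 d⁻¹]; group
    show ⁅d * n, d' * n'⁆ ∈ Dx x
    rw [e]
    exact mul_mem (mul_mem (mul_mem hd hd') (inv_mem hd)) (inv_mem hd')
  have hw' : w ∈ ((Q0 ⊔ ⁅E, E⁆ : Subgroup H) : Set H) := hsub hwQ
  rw [coe_mul_of_right_le_normalizer_left Q0 ⁅E, E⁆ ((hEE.trans inf_le_right).trans hQ0n)] at hw'
  obtain ⟨k, hk, d, hd, rfl⟩ := hw'
  have hdD := (hEE hd).1
  have hkf : k ∈ Fx x := by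
    have := mul_mem (show k * d ∈ Fx x from hwf) ((Fx x).inv_mem (Dx_le_Fx hdD))
    rwa [mul_inv_cancel_right] at this
  exact mul_mem (CPof_inf_le_Dx hx hcop IH hQ hQt ⟨hk, hkf⟩) hdD

/-- A noncentral minimal normal subgroup `V`. -/
theorem le_Dx_of_noncentral [Group.IsSolvable H] (hx : x ^ p = 1) (hcop : (Nat.card H).Coprime p)
    (hodd : Odd p) (IH : Smaller p H) (hCP : CPof x ⊤ = ⊤) {q : ℕ} [Fact q.Prime]
    {V : Subgroup H} [V.Normal] [IsMulCommutative V] (hV : Inv x V) (hV1 : V ≠ ⊥)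
    (hminV : ∀ B : Subgroup H, B.Normal → Inv x B → B ≤ V → B = ⊥ ∨ B = V)
    (hVq : IsPGroup q V) (hVc : ¬ V ≤ center H) : Fx x ≤ Dx x := by
  classical
  have hp : p.Prime := Fact.out
  suffices hW : V ⊓ Fx x ≤ Dx x by
    intro w hw
    obtain ⟨d, hd, n, hn, rfl⟩ := quotient_step hx hcop IH hCP hV hV1 hw
    exact mul_mem hd (hW hn)
  have hVcomm : ∀ v ∈ V, ∀ v' ∈ V, v * v' = v' * v := fun v hv v' hv' =>
    congrArg Subtype.val (mul_comm' (⟨v, hv⟩ : V) ⟨v', hv'⟩)
  have hVH : ⁅V, (⊤ : Subgroup H)⁆ = V := by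
    refine (hminV _ inferInstance (hV.commutator inv_top) (commutator_le_left V ⊤)).resolve_left
      fun h => hVc ?_
    rwa [← centralizer_univ, ← coe_top, ← commutator_eq_bot_iff_le_centralizer]
  by_cases hprop : ∀ h : H, V ⊔ CPof x (cm x h) ≠ ⊤
  · obtain ⟨Y, -, hYD, hY⟩ := cover hx hcop IH hCP hV hV (fun k hk s => by
      have := mul_mem (inv_mem hk) (‹V.Normal›.conj_mem k hk s)
      simpa [mul_assoc] using this) (Or.inl rfl) hprop
    exact fun w hw => hYD ⟨hY (hVH.symm ▸ hw.1), hw.2⟩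
  push Not at hprop
  obtain ⟨h, hh⟩ := hprop
  set L := CPof x (cm x h) with hLdef
  have hL : Inv x L := inv_CPof (inv_cm h)
  have hLL : CPof x L = L := CPof_CPof hx hcop (inv_cm h)
  have hVLnorm : ∀ {A : Subgroup H}, V ≤ normalizer (A : Set H) → L ≤ normalizer (A : Set H) →
      A.Normal := fun h1 h2 =>
    normalizer_eq_top_iff.mp (eq_top_iff.mpr (hh ▸ sup_le h1 h2))
  have hnV : ∀ g : H, g ∈ normalizer (V : Set H) := fun g => by
    rw [normalizer_eq_top]; exact mem_top g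
  have hBn : (L ⊓ V).Normal := hVLnorm
    (fun v hv => centralizer_le_normalizer _ (mem_centralizer_iff.mpr fun z hz => hVcomm z hz.2 v hv))
    (fun l hl => inf_normalizer_le_normalizer_inf ⟨le_normalizer hl, hnV l⟩)
  rcases hminV _ hBn (hL.inf hV) inf_le_right with hB | hB
  swap
  · have hLtop : L = ⊤ := top_le_iff.mp (hh ▸ sup_le (hB ▸ inf_le_left) le_rfl)
    exact fun w hw => cm_inf_le_Dx h
      ⟨(CPof_le (inv_cm h)) (show w ∈ L by rw [hLtop]; exact mem_top w), hw.2⟩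
  have hLne : L ≠ ⊤ := fun hLtop => hV1 (by rw [← hB, hLtop, top_inf_eq])
  have hLD : L ⊓ Fx x ≤ Dx x := le_Dx_of_proper hx hcop IH hL hLne hLL
  -- we may assume that `L` is faithful on `V`
  set C := L ⊓ centralizer (V : Set H) with hCdef
  have hCn : C.Normal := hVLnorm
    (fun v hv => centralizer_le_normalizer _ (mem_centralizer_iff.mpr fun z hz =>
      (mem_centralizer_iff.mp hz.2 v hv).symm))
    (fun l hl => inf_normalizer_le_normalizer_inf ⟨le_normalizer hl, by
      rw [normalizer_eq_top]; exact mem_top l⟩)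
  have hCinv : Inv x C := hL.inf (hV.centralizer hp.ne_zero hx)
  by_cases hC1 : C = ⊥
  swap
  · intro w hw
    obtain ⟨d, hd, n, hn, rfl⟩ := quotient_step hx hcop IH hCP hCinv hC1 hw.2
    exact mul_mem hd (hLD ⟨hn.1.1, hn.2⟩)
  have hL1 : L ≠ ⊥ := fun hL1 => hVc fun v hv => mem_center_iff.mpr fun g => by
    have hg : g ∈ V := by
      have : g ∈ V ⊔ L := by rw [hh]; exact mem_top g
      rwa [hL1, sup_bot_eq] at this
    exact hVcomm g hg v hv
  obtain ⟨R, hR⟩ := (Set.toFinite {R : Subgroup H | R ≤ L ∧ R ≠ ⊥ ∧ Inv x R ∧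
    L ≤ normalizer (R : Set H)}).exists_minimal ⟨L, le_rfl, hL1, hL, le_normalizer⟩
  obtain ⟨hRL, hR1, hRinv, hRn⟩ := hR.1
  have hRmin : ∀ B : Subgroup H, B ≤ R → Inv x B → L ≤ normalizer (B : Set H) → B ≠ ⊥ → B = R :=
    fun B hB hBi hBn hB1 => le_antisymm hB (hR.2 ⟨hB.trans hRL, hB1, hBi, hBn⟩ hB)
  have hRc : ∀ a ∈ R, ∀ b ∈ R, a * b = b * a := by
    have hne : ⁅R, R⁆ = ⊥ := by
      by_contra hne
      have hn' : L ≤ normalizer ((⁅R, R⁆ : Subgroup H) : Set H) := by
        intro l hl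
        refine Coprime.mem_normalizer_of_conj_smul_eq ?_
        have h1 : MulAut.conj l • R = R := Coprime.conj_smul_eq_self_of_mem (hRn hl)
        have h2 := Subgroup.map_commutator R R (MulAut.conj l).toMonoidHom
        show Subgroup.map (MulAut.conj l).toMonoidHom ⁅R, R⁆ = _
        rw [h2]
        exact congrArg₂ (fun X Y => ⁅X, Y⁆) h1 h1
      exact (Group.IsSolvable.commutator_lt_of_ne_bot hR1).ne
        (hRmin _ (commutator_le_self R) (hRinv.commutator hRinv) hn' hne)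
    intro a ha b hb
    have : ⁅a, b⁆ ∈ (⊥ : Subgroup H) := hne ▸ commutator_mem_commutator ha hb
    exact commutatorElement_eq_one_iff_mul_comm.mp (mem_bot.mp this)
  -- `R` is an `s`-group
  haveI := (nontrivial_iff_ne_bot R).mpr hR1
  obtain ⟨s, hs, hsR⟩ := Nat.exists_prime_and_dvd (Finite.one_lt_card (α := R)).ne'
  haveI : Fact s.Prime := ⟨hs⟩
  let Rs : Subgroup H :=
    { carrier := {r | r ∈ R ∧ r ^ s = 1}
      one_mem' := ⟨one_mem R, one_pow s⟩
      mul_mem' := fun {a b} ha hb =>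
        ⟨mul_mem ha.1 hb.1, by rw [(show Commute a b from hRc a ha.1 b hb.1).mul_pow, ha.2, hb.2, one_mul]⟩
      inv_mem' := fun {a} ha => ⟨R.inv_mem ha.1, by rw [inv_pow, ha.2, inv_one]⟩ }
  have hRs : Rs = R := by
    refine hRmin Rs (fun r hr => hr.1) (fun r hr => ⟨hRinv r hr.1, by rw [← map_pow, hr.2, map_one]⟩)
      (fun l hl => ?_) ?_
    · rw [mem_normalizer_iff]
      intro r
      constructor
      · exact fun hr => ⟨(mem_normalizer_iff.mp (hRn hl) r).mp hr.1, by rw [conj_pow, hr.2]; group⟩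
      · refine fun hr => ⟨(mem_normalizer_iff.mp (hRn hl) r).mpr hr.1, ?_⟩
        have := hr.2
        rwa [conj_pow, mul_inv_eq_one, mul_eq_left] at this
    · obtain ⟨r, hr⟩ := exists_prime_orderOf_dvd_card' s hsR
      intro h
      have : (r : H) ∈ Rs := ⟨r.2, by rw [← hr, ← SubgroupClass.coe_pow, pow_orderOf_eq_one]; rfl⟩
      rw [h, mem_bot, OneMemClass.coe_eq_one] at this
      rw [this, orderOf_one] at hr
      exact hs.ne_one hr.symm
  have hRsP : IsPGroup s R := fun r => ⟨1, Subtype.ext (by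
    have : (r : H) ∈ Rs := hRs.symm ▸ r.2
    simpa using this.2)⟩
  -- `C_V(R) = 1`
  have hCVR : V ⊓ centralizer (R : Set H) = ⊥ := by
    refine (hminV _ (hVLnorm (A := V ⊓ centralizer (R : Set H))
      (fun v hv => centralizer_le_normalizer _ (mem_centralizer_iff.mpr fun z hz => hVcomm z hz.1 v hv))
      (fun l hl => inf_normalizer_le_normalizer_inf ⟨hnV l, ?_⟩))
      (hV.inf (hRinv.centralizer hp.ne_zero hx)) inf_le_left).resolve_right fun h => hR1 ?_
    · refine mem_normalizer_iff.mpr ?_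
      intro z
      have key : ∀ l ∈ L, ∀ z ∈ centralizer (R : Set H), l * z * l⁻¹ ∈ centralizer (R : Set H) := by
        intro l hl z hz
        rw [mem_centralizer_iff] at hz ⊢
        intro r hr
        have hr' : l⁻¹ * r * l ∈ R := (mem_normalizer_iff''.mp (hRn hl) r).mp hr
        calc r * (l * z * l⁻¹) = l * ((l⁻¹ * r * l) * z) * l⁻¹ := by group
          _ = l * (z * (l⁻¹ * r * l)) * l⁻¹ := by rw [hz _ hr']
          _ = l * z * l⁻¹ * r := by group
      refine ⟨key l hl z, fun hz => ?_⟩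
      have := key l⁻¹ (inv_mem hl) _ hz
      simpa [mul_assoc] using this
    · refine le_bot_iff.mp (hC1 ▸ le_inf hRL fun r hr => mem_centralizer_iff.mpr fun v hv => ?_)
      have hv' : v ∈ V ⊓ centralizer (R : Set H) := h.symm ▸ hv
      exact (mem_centralizer_iff.mp hv'.2 r hr).symm
  have hqs : q ≠ s := by
    rintro rfl
    have hP : IsPGroup q (R ⊔ V : Subgroup H) := hRsP.to_sup_of_normal_right hVq
    haveI : (V.subgroupOf (R ⊔ V)).Normal := inferInstance
    have hne := PGroup.inf_center_ne_bot hP (V.subgroupOf (R ⊔ V))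
      (fun h => hV1 (by
        rw [← map_subgroupOf_eq_of_le (le_sup_right : V ≤ R ⊔ V), h, Subgroup.map_bot]))
    refine hne (eq_bot_iff.mpr fun z hz => ?_)
    have : (z : H) ∈ V ⊓ centralizer (R : Set H) := ⟨hz.1, mem_centralizer_iff.mpr fun r hr =>
      congrArg Subtype.val (mem_center_iff.mp hz.2 ⟨r, mem_sup_left hr⟩)⟩
    rw [hCVR, mem_bot, OneMemClass.coe_eq_one] at this
    exact mem_bot.mpr this
  have hcopRV : (Nat.card R).Coprime (Nat.card V) :=
    IsPGroup.coprime_card_of_ne s q hqs.symm R V hRsP hVq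
  set T := CPof x R with hTdef
  have hTR : T ≤ R := CPof_le hRinv
  have hT : Inv x T := inv_CPof hRinv
  have hRV : R ≤ normalizer (V : Set H) := fun r _ => hnV r
  by_cases hVT : V ⊔ T = ⊤
  · -- the base configuration
    have hLT : L ≤ T := by
      intro l hl
      have : l ∈ ((V ⊔ T : Subgroup H) : Set H) := by rw [hVT]; exact mem_top l
      rw [coe_mul_of_right_le_normalizer_left V T (fun t _ => hnV t)] at this
      obtain ⟨v, hv, t, ht, rfl⟩ := this
      have hv' : v ∈ L ⊓ V :=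
        ⟨by have := mul_mem hl (L.inv_mem (hTR.trans hRL ht))
            rwa [mul_inv_cancel_right] at this, hv⟩
      rw [hB, mem_bot] at hv'
      show v * t ∈ T
      rw [hv', one_mul]
      exact ht
    have hLR : L = R := le_antisymm (hLT.trans hTR) hRL
    let ψ : R →* R :=
      { toFun := fun r => ⟨(r : H)⁻¹ * x r, mul_mem (inv_mem r.2) (hRinv _ r.2)⟩
        map_one' := Subtype.ext (by simp)
        map_mul' := fun a b => Subtype.ext (by
          show ((a : H) * b)⁻¹ * x ((a : H) * b) = ((a : H)⁻¹ * x a) * ((b : H)⁻¹ * x b)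
          rw [map_mul, hRc _ a.2 _ b.2]
          have h3 := hRc ((b : H)⁻¹) (inv_mem b.2) (x (a : H)) (hRinv _ a.2)
          calc ((b : H) * a)⁻¹ * (x a * x b) = (a : H)⁻¹ * ((b : H)⁻¹ * x a) * x b := by group
            _ = (a : H)⁻¹ * (x a * (b : H)⁻¹) * x b := by rw [h3]
            _ = _ := by group) }
    have hψs : Function.Surjective ψ := by
      have hrange : ∀ c ∈ CPof x R, c ∈ ψ.range.map R.subtype := by
        intro c hc
        induction hc using closure_induction with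
        | mem c hc =>
          obtain ⟨k, hk, i, rfl⟩ := hc
          induction i with
          | zero => simp
          | succ i ih =>
            have e : k⁻¹ * (x ^ (i + 1)) k =
                (k⁻¹ * (x ^ i) k) * (((x ^ i) k)⁻¹ * x ((x ^ i) k)) := by
              rw [pow_succ_apply]; group
            rw [e]
            exact mul_mem ih ⟨_, ⟨⟨(x ^ i) k, hRinv.pow i hk⟩, rfl⟩, rfl⟩
        | one => exact one_mem _
        | mul a b _ _ iha ihb => exact mul_mem iha ihb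
        | inv a _ iha => exact inv_mem iha
      intro r
      obtain ⟨r', hr', e⟩ := hrange r (hLT (hRL r.2))
      obtain ⟨a, rfl⟩ := hr'
      exact ⟨a, Subtype.ext e⟩
    have hRx : R ⊓ Fx x = ⊥ := by
      rw [eq_bot_iff]
      intro r hr
      have h1 : ψ ⟨r, hr.1⟩ = ψ 1 := by
        rw [map_one]
        exact Subtype.ext (show r⁻¹ * x r = 1 by rw [mem_Fx.mp hr.2, inv_mul_cancel])
      exact mem_bot.mpr (congrArg Subtype.val (Finite.injective_iff_surjective.mpr hψs h1))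
    have hbase : Fx x ≤ Dx x := le_Dx_base hx hodd hV hRinv hRc hVq hRsP hqs hV1
      (hLR ▸ hh) (by rw [inf_comm, ← hLR]; exact hB) hCVR hRx hminV (fun B hBi hBR => by
        by_cases hB1 : B = ⊥
        · exact Or.inl hB1
        · refine Or.inr (hRmin B hBR hBi (fun l hl => ?_) hB1)
          exact centralizer_le_normalizer _ (mem_centralizer_iff.mpr fun z hz =>
            hRc z (hBR hz) l (hLR ▸ hl)))
    exact fun w hw => hbase hw.2
  -- `V = [V, T] × C_V(T)`
  have hTV : T ≤ normalizer (V : Set H) := hTR.trans hRV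
  have hcopTV : (Nat.card T).Coprime (Nat.card V) :=
    hcopRV.coprime_dvd_left (card_dvd_of_le hTR)
  have hsolV : ∀ {A : Subgroup H}, A ≤ V → Group.IsSolvable A := fun {A} hA =>
    Group.isSolvable_of_comm fun a b => Subtype.ext (hVcomm a (hA a.2) b (hA b.2))
  have hVdec := Coprime.commutator_sup_centralizer hTV hcopTV (Or.inr (hsolV le_rfl))
  have hVTle : ⁅V, T⁆ ≤ V := Coprime.commutator_le_left_of_le_normalizer hTV
  have hstep1 : ⁅V, T⁆ ⊓ Fx x ≤ Dx x := by
    refine le_trans (inf_le_inf_right _ ?_) (CPof_inf_le_Dx hx hcop IH (hV.sup hT) hVT)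
    refine commutator_le.mpr fun v hv t ht => ?_
    have ht' : t ∈ CPof x (V ⊔ T) :=
      CPof_mono le_sup_right ((CPof_CPof hx hcop hRinv).symm ▸ ht)
    have h1 := conj_mem_CPof (x := x) (mem_sup_left (V.inv_mem hv) : v⁻¹ ∈ V ⊔ T) ht'
    rw [inv_inv] at h1
    rw [commutatorElement_def]
    exact mul_mem h1 ((CPof x (V ⊔ T)).inv_mem ht')
  set U := (V ⊓ centralizer (T : Set H)) ⊓ Fx x with hU
  have hstep2 : U ≤ Dx x := by
    set E := R ⊓ Fx x with hE
    have hEU : E ≤ normalizer (U : Set H) := by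
      intro e he
      refine inf_normalizer_le_normalizer_inf ⟨inf_normalizer_le_normalizer_inf
        ⟨hnV e, le_normalizer (mem_centralizer_iff.mpr fun t ht => hRc t (hTR ht) e he.1)⟩,
        le_normalizer he.2⟩
    have hUV : U ≤ V := inf_le_left.trans inf_le_left
    have h := Coprime.commutator_sup_centralizer hEU
      ((hcopRV.coprime_dvd_left (card_dvd_of_le inf_le_left)).coprime_dvd_right (card_dvd_of_le hUV))
      (Or.inr (hsolV hUV))
    have hUE : U ⊓ centralizer (E : Set H) = ⊥ := by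
      rw [eq_bot_iff]
      rintro u ⟨hu, huE⟩
      rw [mem_bot]
      have : u ∈ V ⊓ centralizer (R : Set H) := ⟨hu.1.1, mem_centralizer_iff.mpr fun r hr => by
        obtain ⟨m, hm, c, hc, rfl⟩ := exists_decomp hx hcop hRinv hr
        rw [mul_assoc, mem_centralizer_iff.mp huE c hc, ← mul_assoc,
          mem_centralizer_iff.mp hu.1.2 m hm, mul_assoc]⟩
      rwa [hCVR, mem_bot] at this
    rw [hUE, sup_bot_eq] at h
    rw [← h]
    refine commutator_le.mpr fun u hu e he => ?_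
    have heD : e ∈ Dx x := hLD ⟨hRL he.1, he.2⟩
    exact mul_mem ((mem_normalizer_iff.mp (Fx_le_normalizer_Dx hu.2) e).mp heD) (inv_mem heD)
  have hV' : V ⊓ Fx x ≤ (⁅V, T⁆ ⊓ Fx x) ⊔ ((V ⊓ centralizer (T : Set H)) ⊓ Fx x) := by
    conv_lhs => rw [← hVdec]
    exact sup_inf_Fx hx hcop (hV.commutator hT) (hV.inf (hT.centralizer hp.ne_zero hx))
      (fun z hz => centralizer_le_normalizer _ (mem_centralizer_iff.mpr fun y hy =>
        hVcomm y hy.1 z (hVTle hz)))
  exact hV'.trans (sup_le hstep1 hstep2)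

/-- The statement for `[H, x] = H`. -/
theorem goal_of_solvable (hodd : Odd p) :
    ∀ (H : Type u) [Group H] [Finite H] [Group.IsSolvable H],
      (Nat.card H).Coprime p → Goal p H := by
  suffices h : ∀ n, ∀ (H : Type u) [Group H] [Finite H] [Group.IsSolvable H],
      Nat.card H = n → (Nat.card H).Coprime p → Goal p H from fun H => h _ H rfl
  intro n
  induction n using Nat.strong_induction_on with
  | _ n IH =>
  intro H _ _ _ hn hcop x hx hCP w hw
  have IH' : Smaller p H := fun K _ _ _ hlt hK => IH _ (hn ▸ hlt) K rfl hK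
  have hp : p.Prime := Fact.out
  rcases subsingleton_or_nontrivial H with hs | hnt
  · rw [Subsingleton.elim w 1]; exact one_mem _
  obtain ⟨V, hV⟩ := (Set.toFinite {B : Subgroup H | B.Normal ∧ Inv x B ∧ B ≠ ⊥}).exists_minimal
    ⟨⊤, inferInstance, inv_top, top_ne_bot⟩
  obtain ⟨hVn, hVinv, hV1⟩ := hV.1
  have hminV : ∀ B : Subgroup H, B.Normal → Inv x B → B ≤ V → B = ⊥ ∨ B = V := fun B h1 h2 h3 => by
    by_cases hB : B = ⊥
    · exact Or.inl hB
    · exact Or.inr (le_antisymm h3 (hV.2 ⟨h1, h2, hB⟩ h3))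
  have hVab : ⁅V, V⁆ = ⊥ :=
    (hminV _ inferInstance (hVinv.commutator hVinv) (commutator_le_self V)).resolve_right
      (Group.IsSolvable.commutator_lt_of_ne_bot hV1).ne
  haveI : IsMulCommutative V := ⟨⟨fun a b => Subtype.ext (by
    have : ⁅(a : H), (b : H)⁆ ∈ (⊥ : Subgroup H) := hVab ▸ commutator_mem_commutator a.2 b.2
    exact commutatorElement_eq_one_iff_mul_comm.mp (mem_bot.mp this))⟩⟩
  haveI := (nontrivial_iff_ne_bot V).mpr hV1
  obtain ⟨q, hq, hqV⟩ := Nat.exists_prime_and_dvd (Finite.one_lt_card (α := V)).ne'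
  haveI : Fact q.Prime := ⟨hq⟩
  have hVcomm : ∀ a ∈ V, ∀ b ∈ V, Commute a b := fun a ha b hb =>
    congrArg Subtype.val (mul_comm' (⟨a, ha⟩ : V) ⟨b, hb⟩)
  let Vq : Subgroup H :=
    { carrier := {v | v ∈ V ∧ v ^ q = 1}
      one_mem' := ⟨one_mem V, one_pow q⟩
      mul_mem' := fun {a b} ha hb =>
        ⟨mul_mem ha.1 hb.1, by rw [(hVcomm a ha.1 b hb.1).mul_pow, ha.2, hb.2, one_mul]⟩
      inv_mem' := fun {a} ha => ⟨V.inv_mem ha.1, by rw [inv_pow, ha.2, inv_one]⟩ }
  have hVqn : Vq.Normal := ⟨fun v hv g => ⟨hVn.conj_mem v hv.1 g, by rw [conj_pow, hv.2]; group⟩⟩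
  have hVq : Vq = V := by
    refine (hminV Vq hVqn (fun v hv => ⟨hVinv v hv.1, by rw [← map_pow, hv.2, map_one]⟩)
      (fun v hv => hv.1)).resolve_left fun h => ?_
    obtain ⟨v, hv⟩ := exists_prime_orderOf_dvd_card' q hqV
    have : (v : H) ∈ Vq := ⟨v.2, by rw [← hv, ← SubgroupClass.coe_pow, pow_orderOf_eq_one]; rfl⟩
    rw [h, mem_bot, OneMemClass.coe_eq_one] at this
    rw [this, orderOf_one] at hv
    exact hq.ne_one hv.symm
  have hVqP : IsPGroup q V := fun v => ⟨1, Subtype.ext (by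
    have : (v : H) ∈ Vq := hVq.symm ▸ v.2
    simpa using this.2)⟩
  by_cases hc : V ≤ center H
  · obtain ⟨d, hd, m, hm, rfl⟩ := quotient_step hx hcop IH' hCP hVinv hV1 hw
    exact mul_mem hd (le_Dx_of_central hx hcop hodd IH' hCP hVinv hV1 hVqP hc hm.1 hm.2)
  · exact le_Dx_of_noncentral hx hcop hodd IH' hCP hVinv hV1 hminV hVqP hc hw

/-- `C_{[H,x]}(x) = ⟨C_{[h,x]}(x) : h ∈ H⟩`. -/
theorem fixed_CPof_eq [Group.IsSolvable H] (hodd : Odd p) (hx : x ^ p = 1)
    (hcop : (Nat.card H).Coprime p) : CPof x ⊤ ⊓ Fx x = Dx x := by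
  refine le_antisymm ?_ (iSup_le fun h => inf_le_inf_right _ (cm_le_CPof (mem_top h)))
  by_cases htop : CPof x ⊤ = ⊤
  · exact inf_le_right.trans (goal_of_solvable hodd H hcop x hx htop)
  · exact le_Dx_of_proper hx hcop (fun K _ _ _ _ hK => goal_of_solvable hodd K hK) (inv_CPof inv_top)
      htop (CPof_CPof hx hcop inv_top)

end Cfsg.Agent.FixedComm
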