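import Cfsg.Agent.Lib.FixedComm.Basic
import Cfsg.Agent.Lib.Coprime.Commutator
import Cfsg.Agent.Lib.PGroup.Frattini
import Mathlib.GroupTheory.Nilpotent

/-!
# Reductions: invariant subgroups, quotients, covering, and the `q`-group case
-/

set_option autoImplicit false
set_option linter.style.haveILetI false

namespace Cfsg.Agent.FixedComm

open Subgroup
open scoped commutatorElement

universe u

/-- The statement: `[H, x] = H` implies `C(x) = ⟨C_{[h,x]}(x)⟩`. -/
def Goal (p : ℕ) (H : Type u) [Group H] : Prop :=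
  ∀ x : MulAut H, x ^ p = 1 → CPof x ⊤ = ⊤ → Fx x ≤ Dx x

/-- The induction hypothesis. -/
def Smaller (p : ℕ) (H : Type u) : Prop :=
  ∀ (K : Type u) [Group K] [Finite K] [Group.IsSolvable K],
    Nat.card K < Nat.card H → (Nat.card K).Coprime p → Goal p K

variable {H : Type u} [Group H] [Finite H] {p : ℕ} [Fact p.Prime] {x : MulAut H}

theorem card_lt_of_ne_top {K : Subgroup H} (hK : K ≠ ⊤) : Nat.card K < Nat.card H := by
  by_contra hle
  exact hK (eq_top_of_le_card K (not_lt.mp hle))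

/-- The restriction of `x` to an invariant subgroup. -/
noncomputable def rest (x : MulAut H) (K : Subgroup H) (hK : Inv x K) : MulAut K :=
  MulEquiv.ofBijective
    ({ toFun := fun k => ⟨x k, hK _ k.2⟩
       map_one' := Subtype.ext (map_one x)
       map_mul' := fun a b => Subtype.ext (map_mul x (a : H) b) } : K →* K)
    (Finite.injective_iff_bijective.mp fun a b h =>
      Subtype.ext (x.injective (congrArg Subtype.val h)))

omit [Fact p.Prime] in
theorem rest_pow_apply {K : Subgroup H} (hK : Inv x K) (i : ℕ) :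
    ∀ k : K, (((rest x K hK) ^ i) k : H) = (x ^ i) k := by
  induction i with
  | zero => intro k; simp
  | succ i ih =>
    intro k
    rw [pow_succ_apply, pow_succ_apply, ← ih]
    rfl

variable (hx : x ^ p = 1) (hcop : (Nat.card H).Coprime p)

include hx hcop in
/-- The statement for a proper invariant subgroup `K = [K, x]`. -/
theorem le_Dx_of_proper [Group.IsSolvable H] (IH : Smaller p H) {K : Subgroup H}
    (hK : Inv x K) (hKne : K ≠ ⊤) (hKK : CPof x K = K) : K ⊓ Fx x ≤ Dx x := by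
  set y := rest x K hK with hy
  have hyp : y ^ p = 1 := MulEquiv.ext fun k => Subtype.ext (by
    rw [rest_pow_apply, hx]; rfl)
  have hmapcm : ∀ k : K, (cm y k).map K.subtype = cm x k := by
    intro k
    rw [cm, MonoidHom.map_closure, cm]
    congr 1
    ext c
    constructor
    · rintro ⟨_, ⟨i, rfl⟩, rfl⟩
      exact ⟨i, by simp [y, rest_pow_apply]⟩
    · rintro ⟨i, rfl⟩
      exact ⟨k⁻¹ * (y ^ i) k, ⟨i, rfl⟩, by simp [y, rest_pow_apply]⟩
  have htop : CPof y ⊤ = ⊤ := by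
    apply map_injective K.subtype_injective
    rw [← MonoidHom.range_eq_map, range_subtype]
    conv_rhs => rw [← hKK]
    rw [CPof, MonoidHom.map_closure, CPof]
    congr 1
    ext c
    constructor
    · rintro ⟨_, ⟨k, -, i, rfl⟩, rfl⟩
      exact ⟨k, k.2, i, by simp [y, rest_pow_apply]⟩
    · rintro ⟨k, hk, i, rfl⟩
      exact ⟨_, ⟨⟨k, hk⟩, mem_top _, i, rfl⟩, by simp [y, rest_pow_apply]⟩
  have h := IH K (card_lt_of_ne_top hKne)
    (hcop.coprime_dvd_left (card_subgroup_dvd_card K)) y hyp htop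
  rintro w ⟨hwK, hw⟩
  have h1 : (⟨w, hwK⟩ : K) ∈ Fx y := Subtype.ext hw
  have h2 : w ∈ (Dx y).map K.subtype := ⟨_, h h1, rfl⟩
  have hle : (Dx y).map K.subtype ≤ Dx x := by
    rw [Dx, Subgroup.map_iSup]
    refine iSup_le fun k => ?_
    rintro _ ⟨z, ⟨hz1, hz2⟩, rfl⟩
    refine cm_inf_le_Dx (k : H) ⟨?_, congrArg Subtype.val hz2⟩
    exact hmapcm k ▸ mem_map_of_mem K.subtype hz1
  exact hle h2

include hx hcop in
theorem CPof_inf_le_Dx [Group.IsSolvable H] (IH : Smaller p H) {K : Subgroup H}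
    (hK : Inv x K) (hKne : K ≠ ⊤) : CPof x K ⊓ Fx x ≤ Dx x :=
  le_Dx_of_proper hx hcop IH (inv_CPof hK) (fun h => hKne (top_le_iff.mp (h ▸ CPof_le hK)))
    (CPof_CPof hx hcop hK)

include hx hcop in
/-- Modulo an invariant normal subgroup `N ≠ 1`, the fixed points lie in `D`. -/
theorem quotient_step [Group.IsSolvable H] (IH : Smaller p H) (hCP : CPof x ⊤ = ⊤)
    {N : Subgroup H} [N.Normal] (hN : Inv x N) (hN1 : N ≠ ⊥) {w : H} (hw : w ∈ Fx x) :
    ∃ d ∈ Dx x, ∃ n ∈ N ⊓ Fx x, w = d * n := by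
  have hmap : N.map (x : H →* H) = N :=
    eq_of_le_of_card_ge (inv_iff_map_le.mp hN)
      (by rw [card_map_of_injective (f := (x : H →* H)) x.injective])
  set y : MulAut (H ⧸ N) := QuotientGroup.congr N N x hmap with hy
  set f := QuotientGroup.mk' N with hf
  have hyf : ∀ (i : ℕ) (h : H), (y ^ i) (f h) = f ((x ^ i) h) := by
    intro i
    induction i with
    | zero => intro h; simp
    | succ i ih =>
      intro h
      rw [pow_succ_apply, ih, pow_succ_apply]
      rfl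
  have hyp : y ^ p = 1 := MulEquiv.ext fun q => by
    obtain ⟨h, rfl⟩ := QuotientGroup.mk'_surjective N q
    rw [hyf, hx]; rfl
  have htop : CPof y ⊤ = ⊤ := by
    rw [← map_top_of_surjective f (QuotientGroup.mk'_surjective N)]
    conv_rhs => rw [← hCP]
    rw [map_top_of_surjective f (QuotientGroup.mk'_surjective N), CPof, CPof,
      MonoidHom.map_closure]
    congr 1
    ext c
    constructor
    · rintro ⟨q, -, i, rfl⟩
      obtain ⟨h, rfl⟩ := QuotientGroup.mk'_surjective N q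
      exact ⟨h⁻¹ * (x ^ i) h, ⟨h, mem_top _, i, rfl⟩, by rw [map_mul, map_inv, hyf]⟩
    · rintro ⟨_, ⟨h, -, i, rfl⟩, rfl⟩
      exact ⟨f h, mem_top _, i, by rw [map_mul, map_inv, hyf]⟩
  have hcard : Nat.card (H ⧸ N) < Nat.card H := by
    rw [card_eq_card_quotient_mul_card_subgroup N]
    exact lt_mul_of_one_lt_right Nat.card_pos (N.one_lt_card_iff_ne_bot.mpr hN1)
  have h := IH (H ⧸ N) hcard (hcop.coprime_dvd_left (card_quotient_dvd_card N)) y hyp htop
  have hle : Dx y ≤ (Dx x).map f := by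
    refine iSup_le fun q => ?_
    obtain ⟨h, rfl⟩ := QuotientGroup.mk'_surjective N q
    rintro c ⟨hc, hcf⟩
    have hc' : c ∈ (cm x h).map f := by
      rw [cm, MonoidHom.map_closure]
      refine closure_mono ?_ hc
      rintro _ ⟨i, rfl⟩
      exact ⟨h⁻¹ * (x ^ i) h, ⟨i, rfl⟩, by rw [map_mul, map_inv, hyf]⟩
    obtain ⟨z, hz, rfl⟩ := hc'
    have hzN : x z * z⁻¹ ∈ cm x h ⊓ N := by
      refine ⟨mul_mem (inv_cm h z hz) ((cm x h).inv_mem hz), ?_⟩
      apply (QuotientGroup.eq_one_iff (N := N) _).mp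
      show f (x z * z⁻¹) = 1
      have h1 : y (f z) = f z := hcf
      rw [map_mul, map_inv, mul_inv_eq_one]
      exact h1
    obtain ⟨c, hc, hcz⟩ := fixed_in_coset hx ((inv_cm h).inf hN) (not_dvd_card hcop _) hzN
    refine ⟨c, cm_inf_le_Dx h ⟨by simpa using mul_mem hcz.1 hz, hc⟩, ?_⟩
    have h2 : f (c * z⁻¹) = 1 := (QuotientGroup.eq_one_iff _).mpr hcz.2
    rwa [map_mul, map_inv, mul_inv_eq_one] at h2
  have hwq : f w ∈ Fx y := show y (f w) = f w from congrArg f hw
  obtain ⟨d, hd, hdw⟩ := hle (h hwq)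
  refine ⟨d, hd, d⁻¹ * w, ⟨?_, mul_mem ((Fx x).inv_mem (Dx_le_Fx hd)) hw⟩, by group⟩
  exact QuotientGroup.eq.mp hdw

include hx hcop in
/-- If every `K [h,x]` is proper, the commutators `[K, H]` lie in a subgroup `Y ≤ A` whose fixed
points are in `D`. -/
theorem cover [Group.IsSolvable H] (IH : Smaller p H) (hCP : CPof x ⊤ = ⊤)
    {K A : Subgroup H} (hK : Inv x K) [K.Normal] (hA : Inv x A) [IsMulCommutative A]
    (hKA : ∀ k ∈ K, ∀ s : H, k⁻¹ * s * k * s⁻¹ ∈ A) (hor : A = K ∨ A ≤ center H)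
    (hprop : ∀ h : H, K ⊔ CPof x (cm x h) ≠ ⊤) :
    ∃ Y : Subgroup H, Y ≤ A ∧ Y ⊓ Fx x ≤ Dx x ∧ ⁅K, (⊤ : Subgroup H)⁆ ≤ Y := by
  classical
  haveI := Fintype.ofFinite H
  let L : H → Subgroup H := fun h => K ⊔ CPof x (cm x h)
  have hL : ∀ h, Inv x (L h) := fun h => hK.sup (inv_CPof (inv_cm h))
  set Yf : H → Subgroup H := fun h => A ⊓ CPof x (L h) with hYf
  set Y := ⨆ h, Yf h with hY
  refine ⟨Y, iSup_le fun h => inf_le_left, ?_, ?_⟩
  · refine iSup_inf_Fx_le hx hcop Yf (fun h => hA.inf (inv_CPof (hL h))) (fun h => inf_le_left)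
      fun h => ?_
    exact (inf_le_inf_right _ inf_le_right).trans (CPof_inf_le_Dx hx hcop IH (hL h) (hprop h))
  have hrel : ∀ s : H, (∀ k ∈ K, k⁻¹ * s * k * s⁻¹ ∈ Y) → ∀ y ∈ Y, s * y * s⁻¹ ∈ Y := by
    intro s hs y hy
    have hyA : y ∈ A := (iSup_le fun h => inf_le_left : Y ≤ A) hy
    rcases hor with rfl | hc
    · have := mul_mem hy (hs y hyA)
      simpa [mul_assoc] using this
    · rw [mem_center_iff.mp (hc hyA) s, mul_inv_cancel_right]
      exact hy
  let M : Submonoid H :=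
    { carrier := {s | ∀ k ∈ K, k⁻¹ * s * k * s⁻¹ ∈ Y}
      one_mem' := fun k _ => by simp
      mul_mem' := fun {a b} ha hb k hk => by
        have e : k⁻¹ * (a * b) * k * (a * b)⁻¹ =
            (k⁻¹ * a * k * a⁻¹) * (a * (k⁻¹ * b * k * b⁻¹) * a⁻¹) := by group
        rw [e]
        exact mul_mem (ha k hk) (hrel a ha _ (hb k hk)) }
  have hTM : ∀ h, ∀ t ∈ CPof x (cm x h), t ∈ M := by
    intro h t ht k hk
    refine mem_iSup_of_mem h ⟨hKA k hk t, ?_⟩
    have ht' : t ∈ CPof x (L h) := by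
      have := CPof_CPof hx hcop (inv_cm (x := x) h)
      exact CPof_mono le_sup_right (this.symm ▸ ht)
    exact mul_mem (conj_mem_CPof (mem_sup_left hk) ht') ((CPof x (L h)).inv_mem ht')
  have hall : ∀ s : H, s ∈ M := by
    intro s
    let M' : Subgroup H :=
      { M with
        inv_mem' := fun {a} ha => by
          have e : a⁻¹ = a ^ (orderOf a - 1) := by
            rw [inv_eq_iff_mul_eq_one, ← pow_succ', Nat.sub_add_cancel (orderOf_pos a),
              pow_orderOf_eq_one]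
          show a⁻¹ ∈ M
          rw [e]
          exact pow_mem ha _ }
    have : (⊤ : Subgroup H) ≤ M' := by
      rw [← iSup_CPof_cm_eq_top hx hcop hCP]
      exact iSup_le hTM
    exact this (mem_top s)
  refine commutator_le.mpr fun k hk s _ => ?_
  have := hall s k⁻¹ (inv_mem hk)
  rwa [inv_inv] at this

section qgroup

omit [Fact p.Prime] in
/-- `e(a) = a · x(a) ⋯ x^{p-1}(a)` on an abelian invariant subgroup. -/
theorem exists_trace {A : Subgroup H} [IsMulCommutative A] (hA : Inv x A) (hp : 0 < p)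
    (hxp : x ^ p = 1) :
    ∃ e : H → H, (∀ a ∈ A, ∀ b ∈ A, e (a * b) = e a * e b) ∧ (∀ a ∈ A, e a ∈ A ⊓ Fx x) ∧
      (∀ a ∈ A, e (x a) = e a) ∧ (∀ a ∈ A, x a = a → e a = a ^ p) ∧
      ∀ (Y : Subgroup H) (a : H), Inv x Y → a ∈ Y → e a ∈ Y := by
  let en : ℕ → H → H := fun n a => Nat.rec 1 (fun i r => r * (x ^ i) a) n
  have hsucc : ∀ n a, en (n + 1) a = en n a * (x ^ n) a := fun n a => rfl
  have hmem : ∀ n (Y : Subgroup H) (a : H), Inv x Y → a ∈ Y → en n a ∈ Y := by
    intro n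
    induction n with
    | zero => intro Y a _ _; exact one_mem _
    | succ n ih => intro Y a hY ha; rw [hsucc]; exact mul_mem (ih Y a hY ha) (hY.pow n ha)
  have hcomm : ∀ a ∈ A, ∀ b ∈ A, a * b = b * a := fun a ha b hb =>
    congrArg Subtype.val (mul_comm' (⟨a, ha⟩ : A) ⟨b, hb⟩)
  have hmul : ∀ n, ∀ a ∈ A, ∀ b ∈ A, en n (a * b) = en n a * en n b := by
    intro n
    induction n with
    | zero => intro a _ b _; exact (mul_one 1).symm
    | succ n ih =>
      intro a ha b hb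
      rw [hsucc, hsucc, hsucc, ih a ha b hb, map_mul]
      have h1 := hcomm _ (hmem n A b hA hb) _ (hA.pow n ha)
      calc en n a * en n b * ((x ^ n) a * (x ^ n) b)
          = en n a * (en n b * (x ^ n) a) * (x ^ n) b := by group
        _ = en n a * ((x ^ n) a * en n b) * (x ^ n) b := by rw [h1]
        _ = en n a * (x ^ n) a * (en n b * (x ^ n) b) := by group
  have hshift : ∀ n a, a * en n (x a) = en (n + 1) a := by
    intro n
    induction n with
    | zero => intro a; simp [en]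
    | succ n ih => intro a; rw [hsucc, ← mul_assoc, ih, ← pow_succ_apply']
  have hcyc : ∀ a ∈ A, en p (x a) = en p a := by
    intro a ha
    apply mul_left_cancel (a := a)
    rw [hshift, hsucc, hxp]
    exact hcomm _ (hmem p A a hA ha) _ ha
  have hfix : ∀ n a, x a = a → en n a = a ^ n := by
    intro n
    induction n with
    | zero => intro a _; exact (pow_zero a).symm
    | succ n ih => intro a ha; rw [hsucc, ih a ha, fixed_pow ha, pow_succ]
  have hnat : ∀ n a, x (en n a) = en n (x a) := by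
    intro n
    induction n with
    | zero => intro a; exact map_one x
    | succ n ih =>
      intro a
      rw [hsucc, hsucc, map_mul, ih, ← pow_succ_apply, pow_succ_apply']
  refine ⟨en p, hmul p, fun a ha => ⟨hmem p A a hA ha, ?_⟩, hcyc, fun a _ h => hfix p a h,
    fun Y a => hmem p Y a⟩
  show x (en p a) = en p a
  rw [hnat, hcyc a ha]

include hx hcop in
/-- The class `2` case: `[H,H]` central. -/
theorem le_Dx_of_class_two (hodd : Odd p) (hCP : CPof x ⊤ = ⊤)
    (hc : _root_.commutator H ≤ center H) {w : H} (hw : w ∈ _root_.commutator H)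
    (hwf : x w = w) : w ∈ Dx x := by
  set A := _root_.commutator H with hA_def
  have hA : Inv x A := by
    rw [inv_iff_map_le, hA_def, commutator_def, Subgroup.map_commutator]
    exact commutator_mono le_top le_top
  haveI : IsMulCommutative A :=
    ⟨⟨fun a b => Subtype.ext (mem_center_iff.mp (hc b.2) a)⟩⟩
  obtain ⟨e, hmul, heA, hinv, hfix, hY⟩ := exists_trace (p := p) hA hodd.pos hx
  have hcA : ∀ k l : H, ⁅k, l⁆ ∈ A := fun k l =>
    commutator_mem_commutator (mem_top k) (mem_top l)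
  have hcen : ∀ k l s : H, s * ⁅k, l⁆ = ⁅k, l⁆ * s := fun k l s => mem_center_iff.mp (hc (hcA k l)) s
  have hbl : ∀ k k' l : H, ⁅k * k', l⁆ = ⁅k, l⁆ * ⁅k', l⁆ := by
    intro k k' l
    rw [commutatorElement_mul_left_eq_conj_mul, hcen k' l k, mul_inv_cancel_right, hcen k' l]
  have hbr : ∀ k l l' : H, ⁅k, l * l'⁆ = ⁅k, l⁆ * ⁅k, l'⁆ := by
    intro k l l'
    have e1 : ⁅k, l * l'⁆ = ⁅k, l⁆ * (l * ⁅k, l'⁆ * l⁻¹) := by
      simp only [commutatorElement_def]; group
    rw [e1, hcen k l' l, mul_inv_cancel_right]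
  have hswap : ∀ k l : H, ⁅k, l⁆ * ⁅l, k⁆ = 1 := fun k l => by
    rw [← commutatorElement_inv k l, mul_inv_cancel]
  set D := Dx x
  have hD1 : ∀ a ∈ A, e a ∈ Fx x := fun a ha => (heA a ha).2
  have hkey : ∀ k : H, e ⁅k, x k⁆ ∈ D := by
    intro k
    obtain ⟨h, z, hz, rfl⟩ := (abelianization_facts hCP).2 k
    have hz1 : ∀ l : H, ⁅z, l⁆ = 1 := fun l => commutatorElement_eq_one_iff_mul_comm.mpr
      (mem_center_iff.mp (hc hz) l).symm
    have hz2 : ∀ l : H, ⁅l, x z⁆ = 1 := fun l => commutatorElement_eq_one_iff_mul_comm.mpr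
      (mem_center_iff.mp (hc (hA z hz)) l)
    rw [map_mul, hbl, hz1, mul_one, hbr, hz2, mul_one]
    have h1 : h⁻¹ * x h ∈ cm x h := by simpa using mem_cm (x := x) h 1
    refine cm_inf_le_Dx h ⟨hY _ _ (inv_cm h) ?_, hD1 _ (hcA _ _)⟩
    have h2 := inv_cm h _ h1
    rw [commutatorElement_def]
    exact mul_mem (mul_mem (mul_mem h1 h2) (inv_mem h1)) (inv_mem h2)
  have he1 : e 1 = 1 := by
    have := hfix 1 (one_mem _) (map_one x)
    rwa [one_pow] at this
  -- congruence modulo `D`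
  let R : H → H → Prop := fun a b => a⁻¹ * b ∈ D
  have hxx : ∀ k l : H, e ⁅x k, x l⁆ = e ⁅k, l⁆ := fun k l => by
    rw [← hinv ⁅k, l⁆ (hcA k l), map_commutatorElement]
  have hsum : ∀ k l : H, e ⁅k, x l⁆ * e ⁅l, x k⁆ ∈ D := by
    intro k l
    have h := hkey (k * l)
    rw [map_mul, hbl, hbr, hbr, hmul _ (mul_mem (hcA _ _) (hcA _ _)) _ (mul_mem (hcA _ _) (hcA _ _)),
      hmul _ (hcA _ _) _ (hcA _ _), hmul _ (hcA _ _) _ (hcA _ _)] at h
    have h1 := mul_mem (mul_mem (inv_mem (hkey k)) h) (inv_mem (hkey l))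
    have e2 : (e ⁅k, x k⁆)⁻¹ * (e ⁅k, x k⁆ * e ⁅k, x l⁆ * (e ⁅l, x k⁆ * e ⁅l, x l⁆)) *
        (e ⁅l, x l⁆)⁻¹ = e ⁅k, x l⁆ * e ⁅l, x k⁆ := by group
    rwa [e2] at h1
  have hcomm : ∀ a ∈ A, ∀ b : H, b * e a = e a * b := fun a ha b =>
    mem_center_iff.mp (hc (heA a ha).1) b
  have hx2 : ∀ k l : H, (e ⁅k, l⁆)⁻¹ * e ⁅k, (x ^ 2) l⁆ ∈ D := by
    intro k l
    have h1 := hsum k (x l)
    rw [hxx l k] at h1
    have h3 : e ⁅l, k⁆ = (e ⁅k, l⁆)⁻¹ := by
      rw [eq_inv_iff_mul_eq_one, ← hmul _ (hcA _ _) _ (hcA _ _), hswap, he1]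
    rw [h3] at h1
    have h4 : x (x l) = (x ^ 2) l := by rw [pow_two, MulAut.mul_apply]
    rw [h4] at h1
    have e3 : (e ⁅k, l⁆)⁻¹ * e ⁅k, (x ^ 2) l⁆ = e ⁅k, (x ^ 2) l⁆ * (e ⁅k, l⁆)⁻¹ := by
      rw [eq_mul_inv_iff_mul_eq, mul_assoc, hcomm _ (hcA k l) _, inv_mul_cancel_left]
    rw [e3]
    exact h1
  have hfin : ∀ k l : H, e ⁅k, l⁆ ∈ D := by
    intro k l
    let M : Subgroup H :=
      { carrier := {l | e ⁅k, l⁆ ∈ D}
        one_mem' := by
          show e ⁅k, (1 : H)⁆ ∈ D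
          rw [commutatorElement_one_right, he1]; exact one_mem _
        mul_mem' := fun {a b} ha hb => by
          show e ⁅k, a * b⁆ ∈ D
          rw [hbr, hmul _ (hcA _ _) _ (hcA _ _)]
          exact mul_mem ha hb
        inv_mem' := fun {a} ha => by
          show e ⁅k, a⁻¹⁆ ∈ D
          have h : e ⁅k, a⁻¹⁆ = (e ⁅k, a⁆)⁻¹ := by
            rw [eq_inv_iff_mul_eq_one, ← hmul _ (hcA _ _) _ (hcA _ _), ← hbr, inv_mul_cancel,
              commutatorElement_one_right, he1]
          rw [h]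
          exact inv_mem ha }
    have hpow : ∀ j l, (e ⁅k, l⁆)⁻¹ * e ⁅k, (x ^ (2 * j)) l⁆ ∈ D := by
      intro j
      induction j with
      | zero => intro l; simp
      | succ j ih =>
        intro l
        have h1 := hx2 k ((x ^ (2 * j)) l)
        rw [← MulAut.mul_apply, ← pow_add, show 2 + 2 * j = 2 * (j + 1) by ring] at h1
        have := mul_mem (ih l) h1
        simpa [mul_assoc] using this
    have hall : (⊤ : Subgroup H) ≤ M := by
      rw [← hCP]
      refine (closure_le _).mpr ?_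
      rintro _ ⟨h, -, i, rfl⟩
      obtain ⟨r, hr⟩ := hodd
      have hi : (x ^ i) h = (x ^ (2 * (i * (r + 1)))) h := by
        rw [show 2 * (i * (r + 1)) = p * i + i by rw [hr]; ring, pow_add, pow_mul, hx, one_pow,
          one_mul]
      show e ⁅k, h⁻¹ * (x ^ i) h⁆ ∈ D
      have h' : e ⁅k, h⁻¹⁆ = (e ⁅k, h⁆)⁻¹ := by
        rw [eq_inv_iff_mul_eq_one, ← hmul _ (hcA _ _) _ (hcA _ _), ← hbr, inv_mul_cancel,
          commutatorElement_one_right, he1]
      rw [hbr, hmul _ (hcA _ _) _ (hcA _ _), h', hi]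
      exact hpow _ h
    exact hall (mem_top l)
  have hA2 : ∀ a ∈ A, e a ∈ D := by
    intro a ha
    have ha' : a ∈ closure {g : H | ∃ k ∈ (⊤ : Subgroup H), ∃ l ∈ (⊤ : Subgroup H), ⁅k, l⁆ = g} := ha
    clear ha
    induction ha' using closure_induction with
    | mem g hg =>
      obtain ⟨k, -, l, -, rfl⟩ := hg
      exact hfin k l
    | one => rw [he1]; exact one_mem _
    | mul a b ha hb iha ihb => rw [hmul _ ha _ hb]; exact mul_mem iha ihb
    | inv a ha iha =>
      have h : e a⁻¹ = (e a)⁻¹ := by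
        rw [eq_inv_iff_mul_eq_one, ← hmul _ (A.inv_mem ha) _ ha, inv_mul_cancel, he1]
      rw [h]
      exact inv_mem iha
  have h1 : w ^ p ∈ D := by
    have := hA2 w hw
    rwa [hfix w hw hwf] at this
  obtain ⟨n, hn⟩ := exists_pow_eq_self_of_coprime (x := w) (n := p)
    (hcop.symm.coprime_dvd_right (orderOf_dvd_natCard w))
  exact hn ▸ pow_mem h1 n

include hx hcop in
/-- The case of a `q`-group. -/
theorem le_Dx_of_isPGroup [Group.IsSolvable H] (hodd : Odd p) (IH : Smaller p H)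
    (hCP : CPof x ⊤ = ⊤) {q : ℕ} [Fact q.Prime] (hq : IsPGroup q H) : Fx x ≤ Dx x := by
  classical
  intro w hw
  have hwA := (abelianization_facts hCP).1 hw
  have hnil : Group.IsNilpotent H := hq.isNilpotent
  obtain ⟨n₀, hn₀⟩ := (isNilpotent_iff_lowerCentralSeries (⊤ : Subgroup H)).mp
    (Group.isNilpotent_top.mpr hnil)
  have hex : ∃ n, (⊤ : Subgroup H).lowerCentralSeries n = ⊥ := ⟨n₀, hn₀⟩
  set n := Nat.find hex with hn
  have hspec : (⊤ : Subgroup H).lowerCentralSeries n = ⊥ := Nat.find_spec hex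
  by_cases hn2 : n ≤ 1
  · have h1 : _root_.commutator H = ⊥ := by
      rw [← top_lowerCentralSeries_one]
      exact le_bot_iff.mp (hspec ▸ Subgroup.lowerCentralSeries_antitone _ hn2)
    rw [h1, mem_bot] at hwA
    rw [hwA]
    exact one_mem _
  obtain ⟨m, hm⟩ : ∃ m, n = m + 2 := ⟨n - 2, by omega⟩
  set K := (⊤ : Subgroup H).lowerCentralSeries m with hK
  set N := (⊤ : Subgroup H).lowerCentralSeries (m + 1) with hNdef
  have hN1 : N ≠ ⊥ := Nat.find_min hex (by omega)
  have hNK : N = ⁅K, ⊤⁆ := Subgroup.lowerCentralSeries_succ _ m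
  have hNc : N ≤ center H := by
    rw [← centralizer_univ, ← coe_top, ← commutator_eq_bot_iff_le_centralizer]
    rw [hm] at hspec
    exact hspec
  have hinv : ∀ i, Inv x ((⊤ : Subgroup H).lowerCentralSeries i) := by
    intro i
    induction i with
    | zero => exact inv_top
    | succ i ih => exact ih.commutator inv_top
  haveI : IsMulCommutative N := ⟨⟨fun a b => Subtype.ext (mem_center_iff.mp (hNc b.2) a)⟩⟩
  haveI : N.Normal := inferInstance
  obtain ⟨d, hd, v, hv, rfl⟩ := quotient_step hx hcop IH hCP (hinv (m + 1)) hN1 hw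
  refine mul_mem hd ?_
  rcases Nat.eq_zero_or_pos m with hm0 | hmpos
  · subst hm0
    have hN0 : (⊤ : Subgroup H).lowerCentralSeries (0 + 1) = _root_.commutator H :=
      top_lowerCentralSeries_one
    exact le_Dx_of_class_two hx hcop hodd hCP (hN0 ▸ hNc) (hN0 ▸ hv.1) hv.2
  by_cases hprop : ∀ h : H, K ⊔ CPof x (cm x h) ≠ ⊤
  · haveI : K.Normal := inferInstance
    obtain ⟨Y, -, hYD, hY⟩ := cover hx hcop IH hCP (hinv m) (hinv (m + 1))
      (fun k hk s => by
        show _ ∈ N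
        rw [hNK]
        have := commutator_mem_commutator (K.inv_mem hk) (mem_top s)
        rwa [commutatorElement_def, inv_inv] at this) (Or.inr hNc) hprop
    exact hYD ⟨hY (hNK ▸ hv.1), hv.2⟩
  push Not at hprop
  obtain ⟨h, hh⟩ := hprop
  have hK1 : K ≤ frattini H := by
    refine le_trans ?_ (PGroup.commutator_le_frattini hq)
    rw [← top_lowerCentralSeries_one]
    exact Subgroup.lowerCentralSeries_antitone _ hmpos
  have htop : CPof x (cm x h) = ⊤ := frattini_nongenerating (eq_top_iff.mpr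
    (hh.ge.trans (sup_le (le_sup_of_le_right hK1) le_sup_left)))
  exact cm_inf_le_Dx h ⟨(htop.ge.trans (CPof_le (inv_cm h))) (mem_top v), hv.2⟩

end qgroup

end Cfsg.Agent.FixedComm
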